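import Cfsg.Agent.FG72.S4Free.Quot
import Cfsg.Agent.Lib.PGroup.Basic
import Mathlib.Tactic.Ring

/-!
A normalised elementary subgroup with the squared condition lies in the 2-core.
-/

set_option autoImplicit false
set_option linter.unusedVariables false
set_option linter.unusedSectionVars false
set_option linter.style.haveILetI false

namespace Cfsg.Agent.S4Free

open Subgroup Equiv
open scoped commutatorElement

universe u

variable {G : Type u} [Group G] [Finite G]

/-- An element of odd order fixing the Frattini quotient of `Q` centralizes `Q`. -/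
theorem mem_centralizer_of_odd {Q : Subgroup G} (hQ : IsPGroup 2 Q) {d : G}
    (hd : d ∈ normalizer (Q : Set G)) (ho : Odd (orderOf d))
    (htriv : ∀ q ∈ Q, d * q * d⁻¹ * q⁻¹ ∈ (frattini ↥Q).map Q.subtype) :
    d ∈ centralizer (Q : Set G) := by
  refine Coprime.le_centralizer_of_frattini (zpowers d) Q (zpowers_le.2 hd) ?_ ?_ (mem_zpowers d)
  · obtain ⟨n, hn⟩ := IsPGroup.iff_card.1 (hQ.to_subgroup (frattini ↥Q))
    rw [hn, Nat.card_zpowers]
    exact Nat.Coprime.pow_right n (Nat.coprime_two_right.2 ho)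
  · intro a ha q hq
    have hdΦ : d ∈ trivOn Q ((frattini ↥Q).map Q.subtype) := by
      refine mem_trivOn.2 ⟨?_, hd, htriv⟩
      refine cj_eq_self.1 (eq_of_le_of_card_ge ?_ card_cj.ge)
      rintro _ ⟨_, ⟨x, hx, rfl⟩, rfl⟩
      have h1 := mul_mem (htriv x x.2) (mem_map_of_mem Q.subtype hx)
      simpa [mul_assoc] using h1
    exact (mem_trivOn.1 ((zpowers_le.2 hdΦ) ha)).2.2 q hq

theorem half {H V V' : Subgroup G} (hH : Good H) (hV : Elem V) (hV' : Elem V') (hVH : V ≤ H)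
    (hV'H : V' ≤ H) (hVn : core H ≤ normalizer (V : Set G))
    (hV'n : core H ≤ normalizer (V' : Set G))
    (hK : ∀ K ≤ H, V ≤ normalizer (K : Set G) → V' ≤ normalizer (K : Set G) →
      TwoMod (core H) K → V ⊓ K ≤ core H) :
    (core H).relIndex V ^ 2 ≤ (centralizer (V : Set G)).relIndex (V' ⊓ core H) := by
  haveI : Fact (Nat.Prime 2) := ⟨Nat.prime_two⟩
  set Q := core H with hQdef
  set Φ := (frattini ↥Q).map Q.subtype with hΦdef
  have hΦQ : Φ ≤ Q := map_subtype_le _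
  have hQH : Q ≤ H := core_le
  have hHΦ : H ≤ normalizer (Φ : Set G) := by
    refine le_normalizer_of_cj_le fun x hx => ?_
    rintro _ ⟨_, ⟨q, hq, rfl⟩, rfl⟩
    let φ : ↥Q ≃* ↥Q := Q.normalizerMonoidHom ⟨x, le_normalizer_core hx⟩
    haveI hc : (frattini ↥Q).Characteristic := frattini_characteristic
    have h1 := (Subgroup.characteristic_iff_map_eq.1 hc φ).le (mem_map_of_mem φ.toMonoidHom hq)
    exact ⟨φ q, h1, rfl⟩
  haveI : (Φ.subgroupOf H).Normal :=
    (normal_subgroupOf_iff_le_normalizer (hΦQ.trans hQH)).2 hHΦ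
  set f := QuotientGroup.mk' (Φ.subgroupOf H) with hf
  have hfs : Function.Surjective f := QuotientGroup.mk'_surjective _
  have hker : ∀ {x : G} (hx : x ∈ H), f ⟨x, hx⟩ = 1 ↔ x ∈ Φ := fun {x} hx => by
    rw [hf, QuotientGroup.mk'_apply, QuotientGroup.eq_one_iff, mem_subgroupOf]
  have hQ2 : IsPGroup 2 ↥Q := isPGroup_core
  have hEQ : Elem (im f Q) := by
    refine elem_iff.2 ⟨?_, ?_⟩
    · rintro _ ⟨⟨x, hxH⟩, hx, rfl⟩
      rw [← map_mul, hf, QuotientGroup.mk'_apply, QuotientGroup.eq_one_iff, mem_subgroupOf]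
      refine ⟨⟨x, hx⟩ * ⟨x, hx⟩, ?_, rfl⟩
      rw [← pow_two]
      exact PGroup.pow_mem_frattini hQ2 _
    · rintro _ ⟨⟨x, hxH⟩, hx, rfl⟩ _ ⟨⟨y, hyH⟩, hy, rfl⟩
      rw [← mul_inv_eq_one, ← map_mul, ← map_mul, ← map_inv, ← map_mul, hf,
        QuotientGroup.mk'_apply, QuotientGroup.eq_one_iff, mem_subgroupOf]
      refine ⟨⁅(⟨x, hx⟩ : ↥Q), (⟨y, hy⟩ : ↥Q)⁆, PGroup.comm_mem_frattini hQ2 _ _, ?_⟩
      show x * y * x⁻¹ * y⁻¹ = x * y * (y * x)⁻¹
      group
  -- `C_H(Q/Φ(Q)) = Q`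
  have hcent : ∀ (k : G) (hk : k ∈ H),
      f ⟨k, hk⟩ ∈ centralizer (im f Q : Set _) → k ∈ Q := by
    set C := pre f (centralizer (im f Q : Set _)) with hC
    have hCn : H ≤ normalizer (C : Set G) := le_normalizer_pre le_rfl
      (Coprime.le_normalizer_centralizer (le_normalizer_im le_rfl le_normalizer_core))
    have hodd : ∀ d ∈ C, Odd (orderOf d) → d = 1 := by
      intro d hd ho
      obtain ⟨hdH, hdc⟩ := mem_pre.1 hd
      have hdQ : d ∈ centralizer (Q : Set G) := by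
        refine mem_centralizer_of_odd hQ2 (le_normalizer_core hdH) ho fun q hq => ?_
        have e := mem_centralizer_iff.1 hdc _ (im_mem (hQH hq) hq)
        refine (hker (H.mul_mem (H.mul_mem (H.mul_mem hdH (hQH hq)) (H.inv_mem hdH))
          (H.inv_mem (hQH hq)))).1 ?_
        calc f ⟨_, _⟩ = f ⟨d, hdH⟩ * f ⟨q, hQH hq⟩ * (f ⟨d, hdH⟩)⁻¹ * (f ⟨q, hQH hq⟩)⁻¹ := by
              simp only [← map_inv, ← map_mul]; rfl
          _ = 1 := by rw [← e]; group
      obtain ⟨k, hk⟩ := hQ2 ⟨d, hH.centralizer_core ⟨hdH, hdQ⟩⟩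
      have h2 : d ^ 2 ^ k = 1 := congrArg Subtype.val hk
      have := Nat.dvd_gcd dvd_rfl (orderOf_dvd_of_pow_eq_one h2)
      rw [show Nat.gcd (orderOf d) (2 ^ k) = 1 from
        Nat.Coprime.pow_right k (Nat.coprime_two_right.2 ho), Nat.dvd_one, orderOf_eq_one_iff] at this
      exact this
    have hC2 : IsPGroup 2 ↥C := by
      rintro ⟨d, hd⟩
      obtain ⟨n, m, hm, e⟩ := Nat.exists_eq_two_pow_mul_odd (orderOf_pos d).ne'
      refine ⟨n, Subtype.ext ?_⟩
      show d ^ 2 ^ n = 1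
      refine hodd _ (C.pow_mem hd _) ?_
      rw [orderOf_pow' _ (by positivity), e, Nat.gcd_eq_right (dvd_mul_right _ _),
        Nat.mul_div_cancel_left _ (by positivity)]
      exact hm
    exact fun k hk h => le_core pre_le hC2 hCn (mem_pre.2 ⟨hk, h⟩)
  set U := V ⊓ Q with hU
  set U' := V' ⊓ Q with hU'
  set P := V ⊔ V' ⊔ Q with hP
  set N := U ⊔ U' with hN
  have hNQ : N ≤ Q := sup_le inf_le_right inf_le_right
  have hPH : P ≤ H := sup_le (sup_le hVH hV'H) hQH
  -- `P` fixes `Q` modulo `N`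
  have hcomm : ∀ {A : Subgroup G}, A ≤ H → Q ≤ normalizer (A : Set G) → A ⊓ Q ≤ N →
      ∀ a ∈ A, ∀ q ∈ Q, a * q * a⁻¹ * q⁻¹ ∈ N := by
    intro A hAH hAn hle a ha q hq
    refine hle ⟨?_, Q.mul_mem (mem_normalizer_conj (le_normalizer_core (hAH ha)) hq) (Q.inv_mem hq)⟩
    have := A.mul_mem ha (mem_normalizer_conj (hAn hq) (A.inv_mem ha))
    simp only [mul_assoc] at this ⊢
    exact this
  have hnormN : ∀ {A : Subgroup G}, A ≤ H → Q ≤ normalizer (A : Set G) → A ⊓ Q ≤ N →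
      A ≤ trivOn Q N := by
    intro A hAH hAn hle a ha
    refine mem_trivOn.2 ⟨cj_eq_self.1 (eq_of_le_of_card_ge ?_ card_cj.ge),
      le_normalizer_core (hAH ha), hcomm hAH hAn hle a ha⟩
    rintro _ ⟨x, hx, rfl⟩
    show a * x * a⁻¹ ∈ N
    have := N.mul_mem (hcomm hAH hAn hle a ha x (hNQ hx)) hx
    simpa [mul_assoc] using this
  have hPN : P ≤ normalizer (N : Set G) := by
    refine sup_le (sup_le ?_ ?_) ?_
    · exact fun x hx => (mem_trivOn.1 (hnormN hVH hVn le_sup_left hx)).1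
    · exact fun x hx => (mem_trivOn.1 (hnormN hV'H hV'n le_sup_right hx)).1
    · refine Coprime.le_normalizer_sup (Coprime.le_normalizer_inf hVn le_normalizer)
        (Coprime.le_normalizer_inf hV'n le_normalizer)
  have hVt : V ⊔ V' ≤ trivOn Q N := sup_le (hnormN hVH hVn le_sup_left) (hnormN hV'H hV'n le_sup_right)
  have hEN : Elem (im f N) := hEQ.of_le (im_mono hNQ)
  have h' : im f P ≤ normalizer (im f N : Set _) := le_normalizer_im hPH hPN
  have htriv : ∀ p ∈ P, ∀ q ∈ im f Q, ∀ (hp : p ∈ H),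
      f ⟨p, hp⟩ * q * (f ⟨p, hp⟩)⁻¹ * q⁻¹ ∈ im f N := by
    have hle : im f P ≤ trivOn (im f Q) (im f N) := by
      have h1 : im f (V ⊔ V') ≤ trivOn (im f Q) (im f N) := by
        rintro _ ⟨⟨a, haH⟩, ha, rfl⟩
        obtain ⟨t1, t2, t3⟩ := mem_trivOn.1 (hVt ha)
        refine mem_trivOn.2 ⟨h' (im_mem haH (le_sup_left (a := V ⊔ V') ha)),
          le_normalizer_im le_rfl le_normalizer_core (im_mem haH haH), ?_⟩
        rintro _ ⟨⟨q, hqH⟩, hq, rfl⟩
        refine mem_im.2 ⟨_, ?_, t3 q hq, ?_⟩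
        · exact H.mul_mem (H.mul_mem (H.mul_mem haH hqH) (H.inv_mem haH)) (H.inv_mem hqH)
        · simp only [← map_inv, ← map_mul]; rfl
      have h2 : im f Q ≤ trivOn (im f Q) (im f N) := by
        intro x hx
        refine mem_trivOn.2 ⟨?_, le_normalizer hx, fun m hm => ?_⟩
        · exact centralizer_le_normalizer _ (centralizer_le (im_mono hNQ) (hEQ.le_centralizer hx))
        · rw [hEQ.comm hx hm, mul_inv_cancel_right, mul_inv_cancel]
          exact one_mem _
      have he : im f P = im f (V ⊔ V') ⊔ im f Q := by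
        rw [hP, im, im, im, ← Subgroup.map_sup, subgroupOf_sup (sup_le hVH hV'H) hQH]
      rw [he]; exact sup_le h1 h2
    exact fun p hp q hq hpH => (mem_trivOn.1 (hle (im_mem hpH hp))).2.2 q hq
  set R := pre f (rad h') with hR
  have hRP : R ≤ P := by
    intro x hx
    obtain ⟨hxH, hx⟩ := mem_pre.1 hx
    obtain ⟨y, hyH, hy, e⟩ := mem_im.1 (rad_le h' hx)
    have h1 : y⁻¹ * x ∈ Φ := by
      refine (hker (H.mul_mem (H.inv_mem hyH) hxH)).1 ?_
      calc f ⟨_, _⟩ = (f ⟨y, hyH⟩)⁻¹ * f ⟨x, hxH⟩ := by rw [← map_inv, ← map_mul]; rfl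
        _ = 1 := by rw [e, inv_mul_cancel]
    have := P.mul_mem hy ((le_sup_right : Q ≤ P) (hΦQ h1))
    simpa using this
  have hRn : P ≤ normalizer (R : Set G) := le_normalizer_pre hPH (le_normalizer_rad h')
  have hR2 : TwoMod Q R := by
    intro k hk
    obtain ⟨hkH, hk'⟩ := mem_pre.1 hk
    obtain ⟨n, hn⟩ := twoOn_rad h' _ hk'
    refine ⟨n + 1, hcent _ (H.pow_mem hkH _) ?_⟩
    have e : f ⟨k ^ 2 ^ (n + 1), H.pow_mem hkH _⟩ =
        f ⟨k, hkH⟩ ^ 2 ^ n * f ⟨k, hkH⟩ ^ 2 ^ n := by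
      rw [← pow_two, ← pow_mul, ← pow_succ, ← map_pow]; rfl
    rw [e]
    refine sq_trivial hEQ (im_mono hNQ) hn fun q hq => ?_
    have := htriv _ (P.pow_mem (hRP hk) (2 ^ n)) q hq (H.pow_mem hkH _)
    rw [show (⟨k ^ 2 ^ n, H.pow_mem hkH _⟩ : ↥H) = ⟨k, hkH⟩ ^ 2 ^ n from rfl, map_pow] at this
    exact this
  have hVR : V ⊓ R ≤ Q := hK R (hRP.trans hPH)
    (le_trans (le_sup_left.trans le_sup_left) hRn) (le_trans (le_sup_right.trans le_sup_left) hRn) hR2
  have hb := (bounds (fun h => hH.free (LocalEven61.involves_trans h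
    (LocalEven61.involves_of_hom f hfs (MonoidHom.id ↥H) fun _ _ e => e))) hEN h' (solvable_im hPH (solvable_le hPH hH.sol))
    (im_mono (le_sup_left.trans le_sup_left : V ≤ P)) (elemOn_of_elem (elem_im hV))).1
  refine (Nat.pow_le_pow_left ?_ 2).trans (hb.trans ?_)
  · rw [← pre_relIndex hVH]
    exact relIndex_le_of_inf_le (by rw [inf_comm]; exact hVR)
  · refine (relIndex_le_of_mul (B := im f U') (im_mono le_sup_right) ?_).trans ?_
    · intro m hm
      have he : im f N = im f U ⊔ im f U' := by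
        rw [hN, im, im, im, ← Subgroup.map_sup,
          subgroupOf_sup (inf_le_right.trans hQH) (inf_le_right.trans hQH)]
      rw [he, sup_comm] at hm
      have hn : im f U ≤ normalizer (im f U' : Set _) :=
        (le_trans (im_mono inf_le_right) hEQ.le_centralizer).trans
          ((centralizer_le (im_mono inf_le_right)).trans (centralizer_le_normalizer _))
      rw [← SetLike.mem_coe, coe_mul_of_right_le_normalizer_left _ _ hn] at hm
      obtain ⟨b, hb, a, ha, rfl⟩ := hm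
      refine ⟨b, hb, ?_⟩
      rw [inv_mul_cancel_left]
      exact centralizer_le (le_refl _) ((elem_im hV).le_centralizer (im_mono inf_le_left ha))
    · rw [← pre_relIndex (inf_le_right.trans hQH)]
      refine relIndex_le_of_inf_le ?_
      rintro x ⟨hxc, hx⟩
      refine mem_pre.2 ⟨hQH hx.2, mem_centralizer_iff.2 ?_⟩
      rintro _ ⟨v, hv, rfl⟩
      rw [← map_mul, ← map_mul]
      exact congrArg f (Subtype.ext (mem_centralizer_iff.1 hxc v hv))

/-- A normalised elementary subgroup with the squared condition lies in the 2-core. -/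
theorem le_core_of_sq {H S V : Subgroup G} (hH : Good H) (hS : IsSyl S H) (hV : Elem V)
    (hVS : V ≤ S) (hn : S ≤ normalizer (V : Set G)) (hq : SQ V S) : V ≤ core H := by
  set Q := core H with hQ
  have hR : IsRadical Q H := ⟨core_le, le_normalizer_core, fun K hK hn _ h2 => le_core hK
    (fun ⟨k, hk⟩ => by
      obtain ⟨n, hn⟩ := h2 k hk
      obtain ⟨m, hm⟩ := isPGroup_core ⟨_, hn⟩
      refine ⟨n + m, Subtype.ext ?_⟩
      show k ^ 2 ^ (n + m) = 1
      rw [pow_add, pow_mul]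
      exact congrArg Subtype.val hm) hn⟩
  obtain ⟨h, hh, hm1, hm2⟩ := exists_mover hH.sol hR hV (hVS.trans hS.le)
  set V' := cj h V with hV'
  have hQh : cj h Q = Q := cj_eq_self.2 (le_normalizer_core hh)
  have hV'e : Elem V' := by
    refine elem_iff.2 ⟨?_, ?_⟩
    · rintro _ ⟨v, hv, rfl⟩; rw [← map_mul, hV.mul_self hv, map_one]
    · rintro _ ⟨v, hv, rfl⟩ _ ⟨w, hw, rfl⟩; rw [← map_mul, ← map_mul, hV.comm hv hw]
  have hV'H : V' ≤ H := (cj_mono (hVS.trans hS.le)).trans (cj_of_mem hh).le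
  have hQV : Q ≤ normalizer (V : Set G) := hS.core_le.trans hn
  have hQV' : Q ≤ normalizer (V' : Set G) := by
    rw [← hQh, hV', ← cj_normalizer]; exact cj_mono hQV
  have hF := half hH hV hV'e (hVS.trans hS.le) hV'H hQV hQV' hm1
  have hG := half hH hV'e hV hV'H (hVS.trans hS.le) hQV' hQV (by
    intro K hK hV'K hVK h2
    have h1 := hm2 (cj h⁻¹ K) ((cj_mono hK).trans (cj_of_mem (H.inv_mem hh)).le)
      (by rw [← cj_normalizer]; exact cj_le_iff.1 hV'K)
      (by rw [← cj_normalizer]; exact cj_mono hVK) (by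
        rintro _ ⟨k, hk, rfl⟩
        obtain ⟨n, hn⟩ := h2 k hk
        refine ⟨n, ?_⟩
        rw [← map_pow]
        exact mem_normalizer_conj (le_normalizer_core (H.inv_mem hh)) hn)
    calc V' ⊓ K = cj h (V ⊓ cj h⁻¹ K) := by rw [cj_inf, cj_cj_inv]
      _ ≤ cj h Q := cj_mono h1
      _ = Q := hQh)
  have hk' : Q.relIndex V' = Q.relIndex V := by rw [hV']; nth_rewrite 1 [← hQh]; exact relIndex_cj
  rw [hk'] at hG
  set k := Q.relIndex V with hk
  set F' := (centralizer (V : Set G)).relIndex (V' ⊓ Q) with hF'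
  set G' := (centralizer (V' : Set G)).relIndex (V ⊓ Q) with hG'
  have key : ∀ {A A' T : Subgroup G}, Elem A' → SQ A T → Q ≤ T →
      (centralizer (A : Set G)).relIndex (A' ⊓ Q) ^ 2 ≤
        Q.relIndex A * (centralizer (A' : Set G)).relIndex (A ⊓ Q) := by
    intro A A' T hA' hq hQT
    refine (hq (A' ⊓ Q) (inf_le_right.trans hQT) (elemOn_of_elem (hA'.of_le inf_le_left))).trans ?_
    refine le_trans (relIndex_le_of_le_left (inf_le_left :
      centralizer ((A' ⊓ Q : Subgroup G) : Set G) ⊓ Q ≤ _) (relIndex_ne_zero' _ _)) ?_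
    rw [← relIndex_inf_mul_relIndex, mul_comm, inf_comm Q A]
    exact Nat.mul_le_mul_left _
      (relIndex_le_of_le_left (centralizer_le inf_le_left) (relIndex_ne_zero' _ _))
  have e1 : F' ^ 2 ≤ k * G' := key hV'e hq hS.core_le
  have e2 : G' ^ 2 ≤ k * F' := by
    have := key (A := V') (A' := V) hV (hq.cj h) (by rw [← hQh]; exact cj_mono hS.core_le)
    rwa [hk'] at this
  have hk0 : k ≠ 0 := relIndex_ne_zero' _ _
  rw [← relIndex_eq_one]
  show k = 1
  by_contra hne
  have h2k : 2 ≤ k := by omega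
  have hF0 : 0 < F' := Nat.pos_of_ne_zero (relIndex_ne_zero' _ _)
  have hG0 : 0 < G' := Nat.pos_of_ne_zero (relIndex_ne_zero' _ _)
  have e3 : (F' * G') * (F' * G') ≤ (k * k) * (F' * G') := by
    calc (F' * G') * (F' * G') = F' ^ 2 * G' ^ 2 := by ring
      _ ≤ (k * G') * (k * F') := Nat.mul_le_mul e1 e2
      _ = _ := by ring
  have e4 : F' * G' ≤ k * k := Nat.le_of_mul_le_mul_right e3 (Nat.mul_pos hF0 hG0)
  have e5 : k * k * (k * k) ≤ F' * G' := by
    calc k * k * (k * k) = k ^ 2 * k ^ 2 := by ring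
      _ ≤ F' * G' := Nat.mul_le_mul hF hG
  have e6 : 4 ≤ k * k := Nat.mul_le_mul h2k h2k
  have e7 : 4 * (k * k) ≤ k * k * (k * k) := Nat.mul_le_mul_right _ e6
  omega

end Cfsg.Agent.S4Free
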