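import Cfsg.Agent.T51.BndDual
import Cfsg.Agent.LocalEven61.PermFour
import Cfsg.Agent.Lib.Thompson.Cores
import Cfsg.Prelude.Def_CaseTheorems

/-!
Radicals of the action of a subgroup on a normalised elementary abelian 2-subgroup, in a group
without a section `S₄`.
-/

set_option autoImplicit false
set_option linter.unusedVariables false
set_option linter.unusedSectionVars false
set_option linter.style.haveILetI false
set_option maxHeartbeats 400000

namespace Cfsg.Agent.S4Free

open Equiv Subgroup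

universe u

variable {G : Type u} [Group G]

/-- Elementary abelian 2-subgroups. -/
abbrev Elem (V : Subgroup G) : Prop := Cfsg.IsElementaryAbelian 2 V

/-- The squares of `B` centralize `V`. -/
def ElemOn (V B : Subgroup G) : Prop := ∀ b ∈ B, b * b ∈ centralizer (V : Set G)

/-- Every element of `K` has some 2-power centralizing `V`. -/
def TwoOn (V K : Subgroup G) : Prop := ∀ k ∈ K, ∃ n : ℕ, k ^ 2 ^ n ∈ centralizer (V : Set G)

theorem Elem.mul_self {V : Subgroup G} (hV : Elem V) {v : G} (hv : v ∈ V) : v * v = 1 := by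
  rw [← pow_two]; exact hV.2 v hv

theorem Elem.comm {V : Subgroup G} (hV : Elem V) {v w : G} (hv : v ∈ V) (hw : w ∈ V) :
    v * w = w * v := congrArg Subtype.val (hV.1.is_comm.comm ⟨v, hv⟩ ⟨w, hw⟩)

theorem Elem.le_centralizer {V : Subgroup G} (hV : Elem V) : V ≤ centralizer (V : Set G) :=
  fun v hv => mem_centralizer_iff.2 fun w hw => hV.comm hw hv

theorem Elem.isPGroup {V : Subgroup G} (hV : Elem V) : IsPGroup 2 V := fun v =>
  ⟨1, Subtype.ext (by rw [pow_one, coe_pow, hV.2 v v.2, coe_one])⟩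

theorem Elem.of_le {V U : Subgroup G} (hV : Elem V) (h : U ≤ V) : Elem U :=
  ⟨⟨⟨fun a b => Subtype.ext (hV.comm (h a.2) (h b.2))⟩⟩, fun a ha => hV.2 a (h ha)⟩

theorem elem_iff {V : Subgroup G} :
    Elem V ↔ (∀ v ∈ V, v * v = 1) ∧ ∀ v ∈ V, ∀ w ∈ V, v * w = w * v :=
  ⟨fun h => ⟨fun v hv => h.mul_self hv, fun v hv w hw => h.comm hv hw⟩,
    fun h => ⟨⟨⟨fun a b => Subtype.ext (h.2 a a.2 b b.2)⟩⟩,
      fun v hv => by rw [pow_two]; exact h.1 v hv⟩⟩

theorem ElemOn.mono {V V' B B' : Subgroup G} (h : ElemOn V B) (hV : V' ≤ V) (hB : B' ≤ B) :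
    ElemOn V' B' := fun b hb => centralizer_le hV (h b (hB hb))

theorem elemOn_of_elem {V B : Subgroup G} (hB : Elem B) : ElemOn V B := fun b hb => by
  rw [hB.mul_self hb]; exact one_mem _

theorem TwoOn.mono {V K K' : Subgroup G} (h : TwoOn V K) (hK : K' ≤ K) : TwoOn V K' :=
  fun k hk => h k (hK hk)

theorem twoOn_of_isPGroup {V K : Subgroup G} (hK : IsPGroup 2 K) : TwoOn V K := fun k hk => by
  obtain ⟨n, hn⟩ := hK ⟨k, hk⟩
  refine ⟨n, ?_⟩
  have : k ^ 2 ^ n = 1 := congrArg Subtype.val hn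
  rw [this]; exact one_mem _

theorem pow_mem_of_ge {C : Subgroup G} {k : G} {n m : ℕ} (h : k ^ 2 ^ n ∈ C) (hm : n ≤ m) :
    k ^ 2 ^ m ∈ C := by
  obtain ⟨j, rfl⟩ := Nat.le.dest hm
  rw [pow_add, pow_mul]
  exact C.pow_mem h _

section act

variable {V H : Subgroup G}

/-- The action of `H` on `V`. -/
noncomputable def act (h : H ≤ normalizer (V : Set G)) : ↥H →* MulAut ↥V :=
  V.normalizerMonoidHom.comp (inclusion h)

theorem act_apply (h : H ≤ normalizer (V : Set G)) (x : ↥H) (v : ↥V) :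
    ((act h x v : ↥V) : G) = (x : G) * v * (x : G)⁻¹ := rfl

theorem act_eq_one_iff (h : H ≤ normalizer (V : Set G)) (x : ↥H) :
    act h x = 1 ↔ (x : G) ∈ centralizer (V : Set G) := by
  have h1 : (inclusion h x) ∈ V.normalizerMonoidHom.ker ↔ _ :=
    SetLike.ext_iff.1 V.normalizerMonoidHom_ker _
  rw [MonoidHom.mem_ker, mem_subgroupOf] at h1
  exact h1

theorem mem_normalizer_conj {x v : G} (h : x ∈ normalizer (V : Set G)) (hv : v ∈ V) :
    x * v * x⁻¹ ∈ V := (mem_normalizer_iff.1 h v).1 hv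

theorem centralizer_normal_in (h : H ≤ normalizer (V : Set G)) {x c : G} (hx : x ∈ H)
    (hc : c ∈ centralizer (V : Set G)) : x * c * x⁻¹ ∈ centralizer (V : Set G) := by
  refine mem_centralizer_iff.2 fun v hv => ?_
  have hv' : x⁻¹ * v * x ∈ V := by
    simpa using mem_normalizer_conj (inv_mem (h hx)) hv
  have e := mem_centralizer_iff.1 hc _ hv'
  calc v * (x * c * x⁻¹) = x * ((x⁻¹ * v * x) * c) * x⁻¹ := by group
    _ = x * (c * (x⁻¹ * v * x)) * x⁻¹ := by rw [e]
    _ = x * c * x⁻¹ * v := by group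

/-- The largest normal subgroup of `H` inducing a 2-group on `V`. -/
noncomputable def rad (h : H ≤ normalizer (V : Set G)) : Subgroup G :=
  ((Cfsg.pCore 2 ↥(act h).range).comap (act h).rangeRestrict).map H.subtype

theorem rad_le (h : H ≤ normalizer (V : Set G)) : rad h ≤ H := map_subtype_le _

theorem mem_rad (h : H ≤ normalizer (V : Set G)) (x : ↥H) :
    (x : G) ∈ rad h ↔ (act h).rangeRestrict x ∈ Cfsg.pCore 2 ↥(act h).range := by
  constructor
  · rintro ⟨y, hy, e⟩
    rw [← Subtype.ext e]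
    exact hy
  · intro hx
    exact ⟨x, hx, rfl⟩

theorem le_normalizer_map_subtype (R : Subgroup ↥H) (hn : R.Normal) :
    H ≤ normalizer ((R.map H.subtype : Subgroup G) : Set G) := by
  intro x hx
  refine mem_normalizer_iff.2 fun y => ⟨?_, ?_⟩
  · rintro ⟨z, hz, rfl⟩
    exact ⟨⟨x, hx⟩ * z * ⟨x, hx⟩⁻¹, hn.conj_mem z hz ⟨x, hx⟩, rfl⟩
  · rintro ⟨z, hz, e⟩
    refine ⟨⟨x, hx⟩⁻¹ * z * ⟨x, hx⟩⁻¹⁻¹, hn.conj_mem z hz ⟨x, hx⟩⁻¹, ?_⟩
    have e' : (z : G) = x * y * x⁻¹ := e
    show x⁻¹ * (z : G) * x⁻¹⁻¹ = y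
    rw [e']; group

theorem le_normalizer_rad (h : H ≤ normalizer (V : Set G)) :
    H ≤ normalizer (rad h : Set G) :=
  le_normalizer_map_subtype _ ((Thompson.instPCoreNormal (p := 2) (G := ↥(act h).range)).comap _)

theorem twoOn_rad (h : H ≤ normalizer (V : Set G)) : TwoOn V (rad h) := by
  intro k hk
  obtain ⟨x, hx, rfl⟩ := hk
  obtain ⟨n, hn⟩ := Thompson.isPGroup_pCore (p := 2) (G := ↥(act h).range)
    ⟨(act h).rangeRestrict x, hx⟩
  refine ⟨n, ?_⟩
  have e1 : ((act h).rangeRestrict x) ^ 2 ^ n = 1 := congrArg Subtype.val hn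
  have e2 : (act h x) ^ 2 ^ n = 1 := congrArg Subtype.val e1
  rw [← map_pow] at e2
  exact (act_eq_one_iff h (x ^ 2 ^ n)).1 e2

theorem le_rad (h : H ≤ normalizer (V : Set G)) {K : Subgroup G} (hK : K ≤ H)
    (hn : H ≤ normalizer (K : Set G)) (h2 : TwoOn V K) : K ≤ rad h := by
  intro k hk
  have hN : ((K.subgroupOf H).map (act h).rangeRestrict).Normal :=
    (normal_subgroupOf_iff_le_normalizer hK).2 hn |>.map _ (MonoidHom.rangeRestrict_surjective _)
  have hp : IsPGroup 2 ↥((K.subgroupOf H).map (act h).rangeRestrict) := by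
    rintro ⟨_, x, hx, rfl⟩
    obtain ⟨n, hn⟩ := h2 (x : G) hx
    refine ⟨n, Subtype.ext (Subtype.ext ?_)⟩
    simp only [SubmonoidClass.coe_pow, OneMemClass.coe_one, MonoidHom.coe_rangeRestrict]
    rw [← map_pow, act_eq_one_iff]
    simpa using hn
  exact (mem_rad h ⟨k, hK hk⟩).2 (Thompson.le_pCore hN hp ⟨⟨k, hK hk⟩, hk, rfl⟩)

theorem inf_centralizer_le_rad (h : H ≤ normalizer (V : Set G)) :
    H ⊓ centralizer (V : Set G) ≤ rad h := by
  refine le_rad h inf_le_left (fun x hx => mem_normalizer_iff.2 fun c => ?_)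
    fun k hk => ⟨0, by rw [pow_zero, pow_one]; exact hk.2⟩
  refine ⟨fun hc => ⟨H.mul_mem (H.mul_mem hx hc.1) (H.inv_mem hx), centralizer_normal_in h hx hc.2⟩,
    fun hc => ?_⟩
  have h1 : x⁻¹ * (x * c * x⁻¹) * x⁻¹⁻¹ = c := by group
  exact h1 ▸ ⟨H.mul_mem (H.mul_mem (H.inv_mem hx) hc.1) (H.inv_mem (H.inv_mem hx)),
    centralizer_normal_in h (H.inv_mem hx) hc.2⟩

end act

variable [Finite G]

/-- No section `S₃` in the group induced on an elementary abelian 2-subgroup. -/
theorem not_involves_three {V H : Subgroup G} (hfree : ¬ Cfsg.Involves (Perm (Fin 4)) G)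
    (hV : Elem V) (h : H ≤ normalizer (V : Set G)) :
    ¬ Cfsg.Involves (Perm (Fin 3)) ↥(act h).range := by
  intro hs
  refine hfree (LocalEven61.involves_perm4_of_two_local V hV.isPGroup ?_)
  set N := normalizer (V : Set G)
  haveI hn : ((centralizer (V : Set G)).subgroupOf N).Normal := by
    rw [← Subgroup.normalizerMonoidHom_ker]; infer_instance
  have h3 : (act h).range ≤ V.normalizerMonoidHom.range := by
    rintro _ ⟨x, rfl⟩; exact ⟨_, rfl⟩
  let e : (↥N ⧸ (centralizer (V : Set G)).subgroupOf N) ≃* ↥V.normalizerMonoidHom.range :=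
    (QuotientGroup.quotientMulEquivOfEq V.normalizerMonoidHom_ker.symm).trans
      (QuotientGroup.quotientKerEquivRange _)
  exact LocalEven61.involves_trans hs (LocalEven61.involves_of_hom (MonoidHom.id _)
    (fun a => ⟨a, rfl⟩) (e.symm.toMonoidHom.comp (inclusion h3))
    (e.symm.injective.comp (inclusion_injective h3)))

theorem composition_of_solvable (X : Type u) [Group X] [Group.IsSolvable X] :
    Cfsg.IsCompositionKGroupWith Cfsg.IsSuzukiOrPSL2OddPowerThree X := by
  intro S _ N _ hsimple hnc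
  haveI := hsimple
  haveI : Group.IsSolvable (↥S ⧸ N) :=
    Group.isSolvable_of_surjective (f := QuotientGroup.mk' N) (QuotientGroup.mk'_surjective N)
  exact absurd ⟨⟨fun a b => (IsSimpleGroup.comm_iff_isSolvable.2 inferInstance) a b⟩⟩ hnc

/-- Both bounds when the induced group has trivial 2-radical. -/
theorem bounds_of_rad_le {V H B : Subgroup G} (hfree : ¬ Cfsg.Involves (Perm (Fin 4)) G)
    (hV : Elem V) (h : H ≤ normalizer (V : Set G)) (hsol : Group.IsSolvable H)
    (hrad : rad h ≤ centralizer (V : Set G)) (hB : B ≤ H) (hBe : ElemOn V B) :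
    (centralizer (V : Set G)).relIndex B ^ 2 ≤ (centralizer (B : Set G)).relIndex V ∧
      (centralizer (V : Set G)).relIndex B ^ 2 ≤ Nat.card ↥⁅V, B⁆ := by
  letI : CommGroup ↥V := { (inferInstance : Group ↥V) with mul_comm := hV.1.is_comm.comm }
  have h2 : ∀ v : ↥V, v * v = 1 := fun v => Subtype.ext (hV.mul_self v.2)
  haveI := T51.Bnd.finite_aut (V := ↥V)
  have hS3 := not_involves_three hfree hV h
  have hO : Cfsg.pCore 2 ↥(act h).range = ⊥ := by
    rw [eq_bot_iff]
    rintro y hy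
    obtain ⟨x, rfl⟩ := (act h).rangeRestrict_surjective y
    rw [mem_bot]
    refine Subtype.ext ?_
    rw [MonoidHom.coe_rangeRestrict, OneMemClass.coe_one, act_eq_one_iff]
    exact hrad ((mem_rad h x).2 hy)
  haveI := hsol
  haveI : Group.IsSolvable ↥(act h).range :=
    Group.isSolvable_of_surjective (f := (act h).rangeRestrict) (MonoidHom.rangeRestrict_surjective _)
  have hc := composition_of_solvable ↥(act h).range
  set A : Subgroup (MulAut ↥V) := (B.subgroupOf H).map (act h) with hA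
  have hAX : A ≤ (act h).range := map_le_range _ _
  have hA2 : ∀ a ∈ A, a * a = 1 := by
    rintro _ ⟨b, hb, rfl⟩
    rw [← map_mul, act_eq_one_iff]
    exact hBe _ hb
  have hcard : Nat.card A = (centralizer (V : Set G)).relIndex B := by
    rw [hA, ← relIndex_ker, ← relIndex_subgroupOf hB]
    congr 1
    ext x
    rw [MonoidHom.mem_ker, act_eq_one_iff, mem_subgroupOf]
  constructor
  · have h1 := T51.Bnd.bound_of_composition h2 hO hS3 hc A hAX hA2
    unfold T51.Bnd.Bound at h1
    have hfix : T51.QOff.fixSub A = (centralizer (B : Set G)).subgroupOf V := by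
      ext v
      rw [T51.QOff.mem_fixSub, mem_subgroupOf]
      constructor
      · intro hv
        refine mem_centralizer_iff.2 fun b hb => ?_
        have := congrArg Subtype.val (hv _ ⟨⟨b, hB hb⟩, hb, rfl⟩)
        rw [act_apply] at this
        exact mul_inv_eq_iff_eq_mul.1 this
      · rintro hv _ ⟨b, hb, rfl⟩
        refine Subtype.ext ?_
        rw [act_apply]
        have hcm : (b : G) * (v : G) = (v : G) * (b : G) := mem_centralizer_iff.1 hv _ hb
        rw [hcm, mul_inv_cancel_right]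
    rw [hcard, hfix] at h1
    have h3 := card_mul_index ((centralizer (B : Set G)).subgroupOf V)
    refine Nat.le_of_mul_le_mul_right (h1.trans ?_) (Nat.card_pos (α := ↥((centralizer (B : Set G)).subgroupOf V)))
    rw [← h3, mul_comm]
    rfl
  · have h1 := T51.Bnd.sq_card_le_commutator h2 hO hS3 hc hAX hA2
    rw [hcard] at h1
    refine h1.trans ((card_map_of_injective V.subtype_injective).ge.trans (card_le_of_le ?_))
    rw [map_le_iff_le_comap, closure_le]
    rintro _ ⟨_, ⟨b, hb, rfl⟩, v, rfl⟩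
    show ((act h b v * v⁻¹ : ↥V) : G) ∈ ⁅V, B⁆
    rw [coe_mul, coe_inv, act_apply, ← commutatorElement_def, commutator_comm]
    exact commutator_mem_commutator hb v.2

end Cfsg.Agent.S4Free
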