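import Cfsg.Agent.FG72.S4Free.Transfer
import Cfsg.Agent.Lib.Coprime.Action

/-!
An elementary abelian 2-group of automorphisms is small compared with the centralized index and
with the commutator, modulo the radical.
-/

set_option autoImplicit false
set_option linter.unusedVariables false
set_option linter.unusedSectionVars false
set_option linter.style.haveILetI false

namespace Cfsg.Agent.S4Free

open Subgroup Equiv

universe u

variable {G : Type u} [Group G] [Finite G]

theorem fixed_ne_bot {V H R : Subgroup G} (hV : Elem V) (hV1 : V ≠ ⊥)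
    (h : H ≤ normalizer (V : Set G)) (hR : R ≤ H) (h2 : TwoOn V R) :
    V ⊓ centralizer (R : Set G) ≠ ⊥ := by
  haveI : Fact (Nat.Prime 2) := ⟨Nat.prime_two⟩
  set A : Subgroup (MulAut ↥V) := (R.subgroupOf H).map (act h)
  have hA : IsPGroup 2 ↥A := by
    rintro ⟨_, x, hx, rfl⟩
    obtain ⟨n, hn⟩ := h2 (x : G) hx
    exact ⟨n, Subtype.ext (by
      rw [SubmonoidClass.coe_pow, OneMemClass.coe_one]
      show (act h x) ^ 2 ^ n = 1
      rw [← map_pow, act_eq_one_iff]
      simpa using hn)⟩
  haveI : Nontrivial ↥V := nontrivial_iff_ne_bot _ |>.2 hV1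
  have hd : 2 ∣ Nat.card ↥V := by
    obtain ⟨n, hn⟩ := IsPGroup.iff_card.1 hV.isPGroup
    rw [hn]
    refine dvd_pow_self 2 fun h0 => ?_
    have := Finite.one_lt_card (α := ↥V)
    rw [hn, h0] at this
    simp at this
  obtain ⟨b, hb, hne⟩ := hA.exists_fixed_point_of_prime_dvd_card_of_fixed_point ↥V hd
    (a := (1 : ↥V)) (fun a => map_one (a : MulAut ↥V))
  intro hbot
  have hmem : (b : G) ∈ V ⊓ centralizer (R : Set G) := by
    refine ⟨b.2, mem_centralizer_iff.2 fun r hr => ?_⟩
    have := congrArg Subtype.val (hb ⟨act h ⟨r, hR hr⟩, ⟨⟨r, hR hr⟩, hr, rfl⟩⟩)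
    change ((act h ⟨r, hR hr⟩ b : ↥V) : G) = _ at this
    rw [act_apply] at this
    exact mul_inv_eq_iff_eq_mul.1 this
  rw [hbot, mem_bot] at hmem
  exact hne (Subtype.ext hmem.symm)

theorem relIndex_ne_zero' (A B : Subgroup G) : A.relIndex B ≠ 0 := index_ne_zero_of_finite

theorem sq_trivial {V V1 : Subgroup G} (hV : Elem V) (hV1 : V1 ≤ V) {k : G}
    (hk1 : k ∈ centralizer (V1 : Set G)) (hk : ∀ v ∈ V, k * v * k⁻¹ * v⁻¹ ∈ V1) :
    k * k ∈ centralizer (V : Set G) := by
  refine mem_centralizer_iff.2 fun v hv => ?_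
  set c := k * v * k⁻¹ * v⁻¹ with hc
  have h1 : k * c = c * k := (mem_centralizer_iff.1 hk1 c (hk v hv)).symm
  have h2 : c * c = 1 := hV.mul_self (hV1 (hk v hv))
  have e1 : k * v = c * v * k := by rw [hc]; group
  calc v * (k * k) = (c * c) * v * (k * k) := by rw [h2, one_mul]
    _ = c * (c * v * k) * k := by simp only [mul_assoc]
    _ = c * (k * v) * k := by rw [e1]
    _ = (c * k) * v * k := by simp only [mul_assoc]
    _ = k * (c * v * k) := by rw [← h1]; simp only [mul_assoc]
    _ = k * k * v := by rw [← e1, mul_assoc]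

theorem bounds_aux : ∀ (n : ℕ) (G : Type u) [Group G] [Finite G] (V H B : Subgroup G),
    Nat.card ↥V ≤ n → ¬ Cfsg.Involves (Perm (Fin 4)) G → Elem V →
    ∀ h : H ≤ normalizer (V : Set G), Group.IsSolvable H → B ≤ H → ElemOn V B →
      (rad h).relIndex B ^ 2 ≤ (centralizer (B : Set G)).relIndex V ∧
        (rad h).relIndex B ^ 2 ≤ Nat.card ↥⁅V, B⁆ := by
  intro n
  induction n with
  | zero =>
    intro G _ _ V H B hn
    have := Nat.card_pos (α := ↥V)
    omega
  | succ n ih =>
    intro G _ _ V H B hn hfree hV h hsol hB hBe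
    by_cases hrad : rad h ≤ centralizer (V : Set G)
    · have e : (rad h).relIndex B = (centralizer (V : Set G)).relIndex B := by
        rw [← inf_relIndex_right (rad h), ← inf_relIndex_right (centralizer (V : Set G))]
        congr 1
        exact le_antisymm (inf_le_inf_right _ hrad)
          (le_inf (fun x hx => inf_centralizer_le_rad h ⟨hB hx.2, hx.1⟩) inf_le_right)
      rw [e]
      exact bounds_of_rad_le hfree hV h hsol hrad hB hBe
    set R := rad h with hR
    set V1 := V ⊓ centralizer (R : Set G) with hV1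
    have hV1V : V1 ≤ V := inf_le_left
    have hVne : V ≠ ⊥ := fun e => hrad fun x _ =>
      mem_centralizer_iff.2 fun v hv => by
        rw [e] at hv
        obtain rfl : v = 1 := hv
        simp
    have hV1ne : V1 ≠ ⊥ := fixed_ne_bot hV hVne h (rad_le h) (twoOn_rad h)
    have hV1lt : V1 < V := lt_of_le_of_ne hV1V fun e => hrad
      (le_centralizer_iff.1 (e.ge.trans inf_le_right))
    have hcardlt : Nat.card ↥V1 < Nat.card ↥V := by
      by_contra hge
      exact hV1lt.ne (eq_of_le_of_card_ge hV1V (not_lt.1 hge))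
    have h1 : H ≤ normalizer (V1 : Set G) :=
      Coprime.le_normalizer_inf h (Coprime.le_normalizer_centralizer (le_normalizer_rad h))
    obtain ⟨ih1, ih1'⟩ := ih G V1 H B (by omega) hfree (hV.of_le hV1V) h1 hsol hB
      (hBe.mono hV1V le_rfl)
    set R1 := rad h1 with hR1
    -- the quotient
    set K := H ⊔ V with hK
    have hHK : H ≤ K := le_sup_left
    have hVK : V ≤ K := le_sup_right
    have hV1K : V1 ≤ K := hV1V.trans hVK
    have hKn : K ≤ normalizer (V1 : Set G) := sup_le h1 fun v hv =>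
      centralizer_le_normalizer _ (centralizer_le hV1V (hV.le_centralizer hv))
    haveI : (V1.subgroupOf K).Normal := (normal_subgroupOf_iff_le_normalizer hV1K).2 hKn
    set f := QuotientGroup.mk' (V1.subgroupOf K) with hf
    have hfs : Function.Surjective f := QuotientGroup.mk'_surjective _
    have hker : ∀ {x : G} (hx : x ∈ K), f ⟨x, hx⟩ = 1 ↔ x ∈ V1 := fun {x} hx => by
      rw [hf, QuotientGroup.mk'_apply, QuotientGroup.eq_one_iff, mem_subgroupOf]
    have hcard : Nat.card ↥(im f V) < Nat.card ↥V := by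
      rw [card_eq_im_mul (f := f) hVK]
      refine lt_mul_of_one_lt_right Nat.card_pos ?_
      rw [Finite.one_lt_card_iff_nontrivial, nontrivial_iff_ne_bot]
      intro e
      have hle1 : V1 ≤ pre f ⊥ ⊓ V := fun x hx => ⟨?_, hV1V hx⟩
      · exact hV1ne (le_bot_iff.1 (hle1.trans e.le))
      exact mem_pre.2 ⟨hV1K hx, (hker (hV1K hx)).2 hx⟩
    set B1 := R1 ⊓ B with hB1
    have hB1H : B1 ≤ H := inf_le_right.trans hB
    have h' : im f H ≤ normalizer (im f V : Set _) := le_normalizer_im hHK h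
    obtain ⟨ih2, ih2'⟩ := ih _ (im f V) (im f H) (im f B1) (by omega)
      (free_of_surjective hfree hfs) (elem_im hV) h' (solvable_im hHK hsol) (im_mono hB1H)
      (elemOn_im (hBe.mono le_rfl inf_le_right))
    set P2 := pre f (rad h') with hP2
    -- the radical
    have hle : R1 ⊓ P2 ⊓ H ≤ R := by
      have hP2n : H ≤ normalizer (P2 : Set G) := by
        intro x hx
        have hxN : f ⟨x, hHK hx⟩ ∈ normalizer (rad h' : Set _) :=
          le_normalizer_rad h' (im_mem _ hx)
        refine mem_normalizer_iff.2 fun y => ⟨fun hy => ?_, fun hy => ?_⟩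
        · obtain ⟨hyK, hy⟩ := mem_pre.1 hy
          refine mem_pre.2 ⟨K.mul_mem (K.mul_mem (hHK hx) hyK) (K.inv_mem (hHK hx)), ?_⟩
          have := (mem_normalizer_iff.1 hxN _).1 hy
          rwa [← map_inv, ← map_mul, ← map_mul] at this
        · obtain ⟨hyK, hy⟩ := mem_pre.1 hy
          have hyK' : y ∈ K := by
            have := K.mul_mem (K.mul_mem (K.inv_mem (hHK hx)) hyK) (hHK hx)
            simpa [mul_assoc] using this
          refine mem_pre.2 ⟨hyK', (mem_normalizer_iff.1 hxN _).2 ?_⟩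
          rw [← map_inv, ← map_mul, ← map_mul]
          exact hy
      refine le_rad h inf_le_right
        (Coprime.le_normalizer_inf (Coprime.le_normalizer_inf (le_normalizer_rad h1) hP2n) le_normalizer) ?_
      rintro k ⟨⟨hk1, hk2⟩, hkH⟩
      obtain ⟨n1, hn1⟩ := twoOn_rad h1 k hk1
      obtain ⟨hkK, hk2⟩ := mem_pre.1 hk2
      obtain ⟨n2, hn2⟩ := twoOn_rad h' _ hk2
      refine ⟨max n1 n2 + 1, ?_⟩
      have e1 := pow_mem_of_ge hn1 (le_max_left n1 n2)
      have e2 := pow_mem_of_ge hn2 (le_max_right n1 n2)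
      rw [pow_succ, pow_mul, pow_two]
      refine sq_trivial hV hV1V e1 fun v hv => ?_
      have hpK : k ^ 2 ^ max n1 n2 ∈ K := K.pow_mem hkK _
      have hcK : k ^ 2 ^ max n1 n2 * v * (k ^ 2 ^ max n1 n2)⁻¹ * v⁻¹ ∈ K :=
        K.mul_mem (K.mul_mem (K.mul_mem hpK (hVK hv)) (K.inv_mem hpK)) (K.inv_mem (hVK hv))
      rw [← hker hcK]
      have hcomm := mem_centralizer_iff.1 e2 _ (im_mem (hVK hv) hv)
      rw [← map_pow] at hcomm
      calc f ⟨_, hcK⟩
          = f (⟨k, hkK⟩ ^ 2 ^ max n1 n2) * f ⟨v, hVK hv⟩ * (f (⟨k, hkK⟩ ^ 2 ^ max n1 n2))⁻¹ *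
              (f ⟨v, hVK hv⟩)⁻¹ := by
            rw [← map_inv, ← map_inv, ← map_mul, ← map_mul, ← map_mul]
            rfl
        _ = 1 := by rw [← hcomm]; group
    have hidx : R.relIndex B ≤ R1.relIndex B * (rad h').relIndex (im f B1) := by
      rw [← pre_relIndex (hB1H.trans hHK), hB1, mul_comm, relIndex_inf_mul_relIndex]
      refine le_trans (relIndex_le_of_le_left hle (relIndex_ne_zero' _ _)) (le_of_eq ?_)
      rw [← inf_relIndex_right, ← inf_relIndex_right (pre f (rad h') ⊓ R1)]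
      congr 1
      apply le_antisymm
      · rintro x ⟨⟨⟨a, b⟩, -⟩, c⟩; exact ⟨⟨b, a⟩, c⟩
      · rintro x ⟨⟨a, b⟩, c⟩; exact ⟨⟨⟨b, a⟩, hB c⟩, c⟩
    have hidx2 := Nat.pow_le_pow_left hidx 2
    rw [mul_pow] at hidx2
    refine ⟨hidx2.trans ((Nat.mul_le_mul ih1 ih2).trans ?_),
      hidx2.trans ((Nat.mul_le_mul ih1' ih2').trans ?_)⟩
    · set C1 := V ⊓ pre f (centralizer (im f B1 : Set _)) with hC1
      have hsub : centralizer (B : Set G) ⊓ V ≤ C1 := by
        rintro v ⟨hvC, hv⟩
        refine ⟨hv, mem_pre.2 ⟨hVK hv, mem_centralizer_iff.2 ?_⟩⟩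
        rintro _ ⟨⟨b, hbK⟩, hb, rfl⟩
        rw [← map_mul, ← map_mul]
        exact congrArg f (Subtype.ext (mem_centralizer_iff.1 hvC b hb.2))
      have hV1C : V1 ≤ C1 := fun v hv => ⟨hV1V hv, mem_pre.2 ⟨hV1K hv, by
        rw [(hker (hV1K hv)).2 hv]; exact one_mem _⟩⟩
      rw [← pre_relIndex hVK, ← inf_relIndex_right (pre f _), ← inf_relIndex_right (centralizer (B : Set G)) V,
        ← relIndex_mul_relIndex _ _ _ hsub inf_le_left, inf_comm (pre f _), ← hC1]
      refine Nat.mul_le_mul_right _ ?_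
      refine le_trans (le_of_eq ?_) (relIndex_le_of_le_right hV1C (relIndex_ne_zero' _ _))
      rw [← inf_relIndex_right, ← inf_relIndex_right (centralizer (B : Set G) ⊓ V), inf_assoc,
        inf_eq_right.2 hV1V]
    · have hVB : ⁅V, B⁆ ≤ K := by
        refine le_trans ?_ hVK
        rw [commutator_le]
        intro v hv b hb
        have : b * v⁻¹ * b⁻¹ ∈ V := mem_normalizer_conj (h (hB hb)) (V.inv_mem hv)
        simpa [commutatorElement_def, mul_assoc] using V.mul_mem hv this
      rw [card_eq_im_mul (f := f) hVB, mul_comm]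
      refine Nat.mul_le_mul (card_le_of_le ?_) (card_le_of_le ?_)
      · exact (commutator_im_le hVK (hB1H.trans hHK)).trans
          (im_mono (commutator_mono le_rfl inf_le_right))
      · refine le_inf ?_ (commutator_mono hV1V le_rfl)
        have hV1B : ⁅V1, B⁆ ≤ V1 := by
          rw [commutator_le]
          intro v hv b hb
          have : b * v⁻¹ * b⁻¹ ∈ V1 := mem_normalizer_conj (h1 (hB hb)) (V1.inv_mem hv)
          simpa [commutatorElement_def, mul_assoc] using V1.mul_mem hv this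
        intro x hx
        exact mem_pre.2 ⟨hV1K (hV1B hx), (hker _).2 (hV1B hx)⟩

/-- The bounds relative to the radical. -/
theorem bounds {V H B : Subgroup G} (hfree : ¬ Cfsg.Involves (Perm (Fin 4)) G) (hV : Elem V)
    (h : H ≤ normalizer (V : Set G)) (hsol : Group.IsSolvable H) (hB : B ≤ H) (hBe : ElemOn V B) :
    (rad h).relIndex B ^ 2 ≤ (centralizer (B : Set G)).relIndex V ∧
      (rad h).relIndex B ^ 2 ≤ Nat.card ↥⁅V, B⁆ :=
  bounds_aux _ G V H B le_rfl hfree hV h hsol hB hBe

end Cfsg.Agent.S4Free
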