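import Mathlib.GroupTheory.Index
import Mathlib.GroupTheory.Sylow
import Mathlib.GroupTheory.Subgroup.Centralizer

/-!
Conjugates of subgroups and the join of the conjugates under a subgroup.
-/

set_option autoImplicit false
set_option linter.unusedVariables false
set_option linter.unusedSectionVars false

namespace Cfsg.Agent.S4Free

open Subgroup

universe u

variable {G : Type u} [Group G]

/-- The conjugate `g X g⁻¹`. -/
def cj (g : G) (X : Subgroup G) : Subgroup G := X.map (MulAut.conj g).toMonoidHom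

variable {X Y H : Subgroup G} {g h x : G}

theorem mem_cj : x ∈ cj g X ↔ g⁻¹ * x * g ∈ X := by
  constructor
  · rintro ⟨y, hy, rfl⟩
    show g⁻¹ * (g * y * g⁻¹) * g ∈ X
    simpa [mul_assoc] using hy
  · intro hx
    exact ⟨_, hx, show g * (g⁻¹ * x * g) * g⁻¹ = x by group⟩

theorem conj_mem_cj (hx : x ∈ X) : g * x * g⁻¹ ∈ cj g X := ⟨x, hx, rfl⟩

@[simp] theorem cj_one : cj (1 : G) X = X := by ext; simp [mem_cj]

theorem cj_cj : cj g (cj h X) = cj (g * h) X := by ext; simp [mem_cj, mul_assoc]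

theorem cj_inv_cj : cj g⁻¹ (cj g X) = X := by rw [cj_cj, inv_mul_cancel, cj_one]

theorem cj_cj_inv : cj g (cj g⁻¹ X) = X := by rw [cj_cj, mul_inv_cancel, cj_one]

theorem cj_mono (h : X ≤ Y) : cj g X ≤ cj g Y := map_mono h

theorem cj_le_iff : cj g X ≤ Y ↔ X ≤ cj g⁻¹ Y :=
  ⟨fun h => cj_inv_cj.ge.trans (cj_mono h), fun h => (cj_mono h).trans cj_cj_inv.le⟩

theorem le_cj_iff : X ≤ cj g Y ↔ cj g⁻¹ X ≤ Y := by rw [cj_le_iff, inv_inv]

theorem cj_inf : cj g (X ⊓ Y) = cj g X ⊓ cj g Y := by ext; simp [mem_cj]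

theorem cj_sup : cj g (X ⊔ Y) = cj g X ⊔ cj g Y := map_sup _ _ _

theorem card_cj : Nat.card ↥(cj g X) = Nat.card ↥X :=
  card_map_of_injective (MulAut.conj g).injective

theorem relIndex_cj : (cj g X).relIndex (cj g Y) = X.relIndex Y :=
  relIndex_map_map_of_injective _ _ (MulAut.conj g).injective

theorem cj_centralizer : cj g (centralizer (X : Set G)) = centralizer (cj g X : Set G) := by
  ext x
  rw [mem_cj, mem_centralizer_iff, mem_centralizer_iff]
  constructor
  · intro h y hy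
    have := h _ (mem_cj.1 hy)
    calc y * x = g * ((g⁻¹ * y * g) * (g⁻¹ * x * g)) * g⁻¹ := by group
      _ = g * ((g⁻¹ * x * g) * (g⁻¹ * y * g)) * g⁻¹ := by rw [this]
      _ = x * y := by group
  · intro h y hy
    have := h _ (conj_mem_cj (g := g) hy)
    calc y * (g⁻¹ * x * g) = g⁻¹ * ((g * y * g⁻¹) * x) * g := by group
      _ = g⁻¹ * (x * (g * y * g⁻¹)) * g := by rw [this]
      _ = g⁻¹ * x * g * y := by group

theorem cj_eq_self : cj g X = X ↔ g ∈ normalizer (X : Set G) := by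
  rw [mem_normalizer_iff]
  constructor
  · intro h y
    constructor
    · exact fun hy => h.le (conj_mem_cj hy)
    · intro hy
      have := mem_cj.1 (h.ge hy)
      simpa [mul_assoc] using this
  · intro h
    ext y
    rw [mem_cj, h]
    simp [mul_assoc]

theorem cj_of_mem (hg : g ∈ X) : cj g X = X := cj_eq_self.2 (le_normalizer hg)

theorem cj_normalizer : cj g (normalizer (X : Set G)) = normalizer (cj g X : Set G) :=
  Subgroup.map_equiv_normalizer_eq _ (MulAut.conj g)

theorem le_normalizer_of_cj_le [Finite G] (h : ∀ y ∈ H, cj y X ≤ X) :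
    H ≤ normalizer (X : Set G) :=
  fun y hy => cj_eq_self.1 (eq_of_le_of_card_ge (h y hy) card_cj.ge)

/-- The join of the conjugates of `X` under `H`. -/
def cl (H X : Subgroup G) : Subgroup G := ⨆ h : ↥H, cj (h : G) X

theorem le_cl : X ≤ cl H X := le_iSup_of_le ⟨1, H.one_mem⟩ (by rw [cj_one])

theorem cj_le_cl (hh : h ∈ H) : cj h X ≤ cl H X := le_iSup_of_le ⟨h, hh⟩ le_rfl

theorem cl_le (hY : ∀ h ∈ H, cj h X ≤ Y) : cl H X ≤ Y := iSup_le fun h => hY h h.2

theorem cj_cl_le (hy : g ∈ H) : cj g (cl H X) ≤ cl H X := by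
  rw [cl, cj, map_iSup]
  refine iSup_le fun h => ?_
  show cj g (cj (h : G) X) ≤ _
  rw [cj_cj]
  exact cj_le_cl (H.mul_mem hy h.2)

theorem le_normalizer_cl [Finite G] : H ≤ normalizer (cl H X : Set G) :=
  le_normalizer_of_cj_le fun _ hy => cj_cl_le hy

theorem cl_le_of_le (hX : X ≤ H) : cl H X ≤ H :=
  cl_le fun h hh => (cj_mono hX).trans (cj_of_mem hh).le

theorem exists_cj_le_sylow [Finite G] {p : ℕ} [Fact p.Prime] {S : Sylow p G} {P : Subgroup G}
    (hP : IsPGroup p P) : ∃ g : G, P ≤ cj g (S : Subgroup G) := by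
  obtain ⟨Q, hQ⟩ := hP.exists_le_sylow
  obtain ⟨g, hg⟩ := MulAction.exists_smul_eq G S Q
  refine ⟨g, hQ.trans (le_of_eq ?_)⟩
  rw [← hg]
  rfl

end Cfsg.Agent.S4Free
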