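import Cfsg.Agent.FG72.S4Free.BOne
import Mathlib.Tactic.Ring
import Mathlib.Tactic.Positivity

/-!
The case of equality in the mutual bounds of two commuting-up-to-squares modules is impossible.
-/

set_option autoImplicit false
set_option linter.unusedVariables false
set_option linter.unusedSectionVars false
set_option linter.style.haveILetI false

namespace Cfsg.Agent.S4Free

open Subgroup Equiv

universe u

variable {G : Type u} [Group G] [Finite G]

theorem free_of_le {K L : Subgroup G} (hKL : K ≤ L) (h : ¬ Cfsg.Involves (Perm (Fin 4)) ↥L) :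
    ¬ Cfsg.Involves (Perm (Fin 4)) ↥K := fun hK => h (LocalEven61.involves_trans hK
  (LocalEven61.involves_of_hom (MonoidHom.id ↥K) (fun a => ⟨a, rfl⟩) (inclusion hKL)
    (inclusion_injective hKL)))

theorem free_of_hom {K : Subgroup G} {Q : Type u} [Group Q] (f : ↥K →* Q)
    (hf : Function.Surjective f) (h : ¬ Cfsg.Involves (Perm (Fin 4)) ↥K) :
    ¬ Cfsg.Involves (Perm (Fin 4)) Q := fun hQ => h (LocalEven61.involves_trans hQ
  (LocalEven61.involves_of_hom f hf (MonoidHom.id ↥K) fun _ _ e => e))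

/-- An element of odd order commuting modulo the kernel with a 2-group and fixing its fixed
points is trivial on the module. -/
theorem mem_centralizer_of_AxB {B Y Z : Subgroup G} (hY : Elem Y)
    (hn : B ≤ normalizer (Y : Set G)) (hZ : Z ≤ B) (hZ2 : IsPGroup 2 Z) {y : G} (hy : y ∈ B)
    (ho : Odd (orderOf y)) (hc : ∀ z ∈ Z, y * z * y⁻¹ * z⁻¹ ∈ centralizer (Y : Set G))
    (hfix : y ∈ centralizer ((centralizer (Z : Set G) ⊓ Y : Subgroup G) : Set G)) :
    y ∈ centralizer (Y : Set G) := by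
  letI : CommGroup ↥Y := { (inferInstance : Group ↥Y) with mul_comm := hY.1.is_comm.comm }
  set σ := act hn ⟨y, hy⟩ with hσ
  set m := orderOf y with hm
  have hσm : σ ^ m = 1 := by
    rw [hσ, ← map_pow, act_eq_one_iff]
    rw [show ((⟨y, hy⟩ : ↥B) ^ m : ↥B) = 1 from Subtype.ext (by rw [coe_pow, coe_one, pow_orderOf_eq_one])]
    exact one_mem _
  let π : ↥Y →* ↥Y := ∏ i ∈ Finset.range m, (σ ^ i : MulAut ↥Y).toMonoidHom
  have hπ : ∀ v, π v = ∏ i ∈ Finset.range m, (σ ^ i : MulAut ↥Y) v := fun v => by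
    show (∏ i ∈ Finset.range m, (σ ^ i : MulAut ↥Y).toMonoidHom) v = _
    rw [MonoidHom.finset_prod_apply]
    rfl
  have hσπ : ∀ v, σ (π v) = π v := fun v => by
    rw [hπ, map_prod]
    have h1 := Finset.prod_range_succ' (fun i => (σ ^ i : MulAut ↥Y) v) m
    have h2 := Finset.prod_range_succ (fun i => (σ ^ i : MulAut ↥Y) v) m
    simp only [hσm, pow_zero, MulAut.one_apply] at h1 h2
    have h3 := h1.symm.trans h2
    calc ∏ i ∈ Finset.range m, σ ((σ ^ i : MulAut ↥Y) v)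
        = ∏ i ∈ Finset.range m, (σ ^ (i + 1) : MulAut ↥Y) v := by
          refine Finset.prod_congr rfl fun i _ => ?_
          rw [pow_succ', MulAut.mul_apply]
      _ = ∏ i ∈ Finset.range m, (σ ^ i : MulAut ↥Y) v := mul_right_cancel h3
  have hσz : ∀ z (hz : z ∈ B), z ∈ Z → Commute σ (act hn ⟨z, hz⟩) := fun z hz hzZ => by
    have e : act hn (⟨y, hy⟩ * ⟨z, hz⟩ * ⟨y, hy⟩⁻¹ * ⟨z, hz⟩⁻¹) = 1 :=
      (act_eq_one_iff hn _).2 (hc z hzZ)
    simp only [map_mul, map_inv] at e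
    have e1 := mul_inv_eq_one.1 e
    exact mul_inv_eq_iff_eq_mul.1 e1
  have hker : π.ker = ⊥ := by
    by_contra hne
    set K := π.ker.map Y.subtype with hK
    have hKne : K ≠ ⊥ := fun h => hne ((map_eq_bot_iff_of_injective _ Y.subtype_injective).1 h)
    have hKY : K ≤ Y := map_subtype_le _
    have hKn : Z ≤ normalizer (K : Set G) := by
      refine le_normalizer_of_cj_le fun z hz => ?_
      rintro _ ⟨_, ⟨v, hv, rfl⟩, rfl⟩
      refine ⟨act hn ⟨z, hZ hz⟩ v, ?_, rfl⟩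
      have hv' : π v = 1 := hv
      show π (act hn ⟨z, hZ hz⟩ v) = 1
      rw [hπ]
      calc ∏ i ∈ Finset.range m, (σ ^ i : MulAut ↥Y) (act hn ⟨z, hZ hz⟩ v)
          = ∏ i ∈ Finset.range m, act hn ⟨z, hZ hz⟩ ((σ ^ i : MulAut ↥Y) v) := by
            refine Finset.prod_congr rfl fun i _ => ?_
            rw [← MulAut.mul_apply, ((hσz z (hZ hz) hz).pow_left i).eq, MulAut.mul_apply]
        _ = act hn ⟨z, hZ hz⟩ (π v) := by rw [hπ, map_prod]
        _ = 1 := by rw [hv', map_one]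
    refine fixed_ne_bot (hY.of_le hKY) hKne hKn le_rfl (twoOn_of_isPGroup hZ2) ?_
    rw [eq_bot_iff]
    rintro v ⟨hvK, hvZ⟩
    obtain ⟨w, hw, rfl⟩ := hvK
    have hfw : σ w = w := by
      refine Subtype.ext ?_
      rw [hσ, act_apply]
      have := mem_centralizer_iff.1 hfix _ ⟨hvZ, w.2⟩
      show y * (w : G) * y⁻¹ = w
      rw [show y * (w : G) = (w : G) * y from this.symm, mul_inv_cancel_right]
    have hpow : ∀ i : ℕ, (σ ^ i : MulAut ↥Y) w = w := fun i => by
      induction i with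
      | zero => rfl
      | succ i ih => rw [pow_succ, MulAut.mul_apply, hfw, ih]
    have hw' : π w = 1 := hw
    rw [hπ, Finset.prod_congr rfl fun i _ => hpow i, Finset.prod_const, Finset.card_range] at hw'
    obtain ⟨j, hj⟩ := ho
    rw [hj, pow_succ, pow_mul, pow_two,
      show w * w = 1 from Subtype.ext (hY.mul_self w.2), one_pow, one_mul] at hw'
    rw [hw']
    exact one_mem _
  have hsurj : Function.Surjective π :=
    Finite.surjective_of_injective ((MonoidHom.ker_eq_bot_iff π).1 hker)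
  refine (act_eq_one_iff hn ⟨y, hy⟩).1 (MulEquiv.ext fun v => ?_)
  obtain ⟨w, rfl⟩ := hsurj v
  exact hσπ w

/-- The elements of `T` central and involutory modulo the kernel of the action on `Y`. -/
def omegaMod {B T Y : Subgroup G} (hn : B ≤ normalizer (Y : Set G)) (hT : T ≤ B) : Subgroup G where
  carrier := {z | z ∈ T ∧ z * z ∈ centralizer (Y : Set G) ∧
    ∀ t ∈ T, z * t * z⁻¹ * t⁻¹ ∈ centralizer (Y : Set G)}
  one_mem' := ⟨one_mem _, by simp, fun t _ => by simp⟩
  mul_mem' := by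
    rintro z w ⟨hz, hz2, hzc⟩ ⟨hw, hw2, hwc⟩
    refine ⟨mul_mem hz hw, ?_, fun t ht => ?_⟩
    · have h1 := centralizer_normal_in hn (hT hz) (hwc z hz)
      have h2 := mul_mem (mul_mem h1 hz2) hw2
      convert h2 using 1
      group
    · have h1 := mul_mem (centralizer_normal_in hn (hT hz) (hwc t ht)) (hzc t ht)
      convert h1 using 1
      group
  inv_mem' := by
    rintro z ⟨hz, hz2, hzc⟩
    refine ⟨inv_mem hz, ?_, fun t ht => ?_⟩
    · rw [← mul_inv_rev]; exact inv_mem hz2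
    · have h1 := centralizer_normal_in hn (B.inv_mem (hT hz)) (inv_mem (hzc t ht))
      convert h1 using 1
      group

theorem mem_omegaMod {B T Y : Subgroup G} (hn : B ≤ normalizer (Y : Set G)) (hT : T ≤ B) {z : G} :
    z ∈ omegaMod hn hT ↔ z ∈ T ∧ z * z ∈ centralizer (Y : Set G) ∧
      ∀ t ∈ T, z * t * z⁻¹ * t⁻¹ ∈ centralizer (Y : Set G) := Iff.rfl

theorem omegaMod_not_le {B T Y : Subgroup G} (hn : B ≤ normalizer (Y : Set G)) (hT : T ≤ B)
    (hT2 : IsPGroup 2 T) (hne : ¬ T ≤ centralizer (Y : Set G)) :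
    ¬ omegaMod hn hT ≤ centralizer (Y : Set G) := by
  intro hle
  set g := (act (hT.trans hn)).rangeRestrict with hg
  have hgs : Function.Surjective g := MonoidHom.rangeRestrict_surjective _
  have hker : ∀ t : ↥T, g t = 1 ↔ (t : G) ∈ centralizer (Y : Set G) := fun t => by
    rw [← act_eq_one_iff (hT.trans hn) t]
    exact Subtype.ext_iff
  haveI : Finite ↥(act (hT.trans hn)).range := Finite.of_surjective g hgs
  have hX2 : IsPGroup 2 ↥(⊤ : Subgroup ↥(act (hT.trans hn)).range) :=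
    (hT2.of_surjective g hgs).to_subgroup ⊤
  have hXne : (⊤ : Subgroup ↥(act (hT.trans hn)).range) ≠ ⊥ := fun h => hne fun t ht =>
    (hker ⟨t, ht⟩).1 (mem_bot.1 (h ▸ mem_top _))
  obtain ⟨x, hx, hx1⟩ := (bot_or_exists_ne_one _).resolve_left (zc_ne_bot hX2 hXne)
  obtain ⟨t, rfl⟩ := hgs x
  refine hx1 ((hker t).2 (hle ((mem_omegaMod hn hT).2 ⟨t.2, ?_, fun s hs => ?_⟩)))
  · have e := (hker (t * t)).1 (by rw [map_mul]; exact hx.2.2)
    exact e
  · have e := mem_centralizer_iff.1 hx.2.1 (g ⟨s, hs⟩) (mem_top _)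
    exact (hker (t * ⟨s, hs⟩ * t⁻¹ * ⟨s, hs⟩⁻¹)).1 (by
      rw [map_mul, map_mul, map_mul, map_inv, map_inv, ← e, mul_inv_cancel_right, mul_inv_cancel])

/-- The case of equality does not occur. -/
theorem no_equality {B Y V : Subgroup G} {k : ℕ} (hB : Good B) (hY : Elem Y) (hYQ : Y ≤ core B)
    (hn : B ≤ normalizer (Y : Set G)) (hV : Elem V) (hVB : V ≤ B)
    (hYV : Y ≤ normalizer (V : Set G)) (hrad : V ⊓ rad hn ≤ core B)
    (hk : k = (core B).relIndex V) (hk2 : 2 ≤ k)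
    (hc : (centralizer (V : Set G)).relIndex Y = k * k)
    (hU : centralizer ((V ⊓ core B : Subgroup G) : Set G) ⊓ Y ≤ centralizer (V : Set G))
    (hUne : ¬ V ⊓ core B ≤ centralizer (Y : Set G)) (hq : SQ Y (core B)) : False := by
  set Q := core B with hQ
  have hQB : Q ≤ B := core_le
  have hQ2 : IsPGroup 2 ↥Q := isPGroup_core
  have hYB : Y ≤ B := hYQ.trans hQB
  set R := rad hn with hR
  have hCR : B ⊓ centralizer (Y : Set G) ≤ R := inf_centralizer_le_rad hn
  have hRad : IsRadical R B := ⟨rad_le hn, le_normalizer_rad hn, fun K hK hKn _ h2 =>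
    le_rad hn hK hKn fun x hx => by
      obtain ⟨n, hn'⟩ := h2 x hx
      obtain ⟨m, hm⟩ := twoOn_rad hn _ hn'
      exact ⟨n + m, by rw [pow_add, pow_mul]; exact hm⟩⟩
  obtain ⟨h, hh, hmv, -⟩ := exists_mover hB.sol hRad hV hVB
  set V2 := cj h V with hV2
  have hV2B : V2 ≤ B := (cj_mono hVB).trans (cj_of_mem hh).le
  set L := V ⊔ V2 with hL
  have hLB : L ≤ B := sup_le hVB hV2B
  have hLY : L ≤ normalizer (Y : Set G) := hLB.trans hn
  -- the fixed points of `L`
  set CV := centralizer (V : Set G) ⊓ Y with hCV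
  set D := CV ⊓ cj h CV with hD
  have hDY : D ≤ Y := inf_le_left.trans inf_le_right
  have hLD : L ≤ centralizer (D : Set G) := by
    refine sup_le (le_centralizer_iff.1 (inf_le_left.trans inf_le_left)) (le_centralizer_iff.1 ?_)
    refine inf_le_right.trans ?_
    rw [hCV, cj_inf, hV2, ← cj_centralizer]
    exact inf_le_left
  have hDk : D.relIndex Y ≤ k * k * (k * k) := by
    refine relIndex_inf_le.trans (Nat.mul_le_mul (le_of_eq ?_) (le_of_eq ?_))
    · rw [hCV, inf_relIndex_right, hc]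
    · have hYh : cj h Y = Y := cj_eq_self.2 (hn hh)
      nth_rewrite 1 [← hYh]
      rw [relIndex_cj, hCV, inf_relIndex_right, hc]
  -- the module of commutators
  set T := cl L (V ⊓ Q) with hT
  have hTQ : T ≤ Q := cl_le fun l hl =>
    (cj_mono inf_le_right).trans (cj_eq_self.2 (le_normalizer_core (hLB hl))).le
  have hTB : T ≤ B := hTQ.trans hQB
  have hTD : T ≤ centralizer (D : Set G) := cl_le fun l hl => by
    refine (cj_mono (inf_le_left.trans (le_sup_left.trans hLD))).trans ?_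
    rw [cj_centralizer, cj_eq_self.2 (centralizer_le_normalizer _ (hLD hl))]
  have hTC : ¬ T ≤ centralizer (Y : Set G) := fun h' => hUne (le_cl.trans h')
  set Z := omegaMod hn hTB with hZ
  have hZT : Z ≤ T := fun z hz => ((mem_omegaMod hn hTB).1 hz).1
  have hZB : Z ≤ B := hZT.trans hTB
  have hZQ : Z ≤ Q := hZT.trans hTQ
  have hZ2 : IsPGroup 2 ↥Z := hQ2.to_le hZQ
  have hZC : ¬ Z ≤ centralizer (Y : Set G) := omegaMod_not_le hn hTB (hQ2.to_le hTQ) hTC
  have hLZ : L ≤ normalizer (Z : Set G) := by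
    refine le_normalizer_of_cj_le fun l hl => ?_
    rintro _ ⟨z, hz, rfl⟩
    obtain ⟨hzT, hz2, hzc⟩ := (mem_omegaMod hn hTB).1 hz
    have hlT : l ∈ normalizer (T : Set G) := le_normalizer_cl hl
    refine (mem_omegaMod hn hTB).2 ⟨mem_normalizer_conj hlT hzT, ?_, fun t ht => ?_⟩
    · have := centralizer_normal_in hn (hLB hl) hz2
      convert this using 1
      show l * z * l⁻¹ * (l * z * l⁻¹) = l * (z * z) * l⁻¹
      group
    · have h1 := hzc _ (mem_normalizer_conj (inv_mem hlT) ht)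
      have := centralizer_normal_in hn (hLB hl) h1
      convert this using 1
      show l * z * l⁻¹ * t * (l * z * l⁻¹)⁻¹ * t⁻¹ = _
      group
  set P := centralizer (Z : Set G) ⊓ Y with hP
  have hDP : D ≤ P := le_inf (le_centralizer_iff.1 (hZT.trans hTD)) hDY
  have hPY : P ≤ Y := inf_le_right
  have hLP : L ≤ normalizer (P : Set G) :=
    Coprime.le_normalizer_inf (Coprime.le_normalizer_centralizer hLZ) hLY
  -- the module `P / D`
  set K1 := L ⊔ P with hK1
  have hK1B : K1 ≤ B := sup_le hLB (hPY.trans hYB)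
  have hPcD : P ≤ centralizer (D : Set G) :=
    hPY.trans (hY.le_centralizer.trans (centralizer_le hDY))
  have hDK : D ≤ K1 := hDP.trans le_sup_right
  haveI : (D.subgroupOf K1).Normal := (normal_subgroupOf_iff_le_normalizer hDK).2
    ((sup_le hLD hPcD).trans (centralizer_le_normalizer _))
  set f := QuotientGroup.mk' (D.subgroupOf K1) with hf
  have hfs : Function.Surjective f := QuotientGroup.mk'_surjective _
  have hfker : ∀ {x : G} (hx : x ∈ K1), f ⟨x, hx⟩ = 1 ↔ x ∈ D := fun {x} hx => by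
    rw [hf, QuotientGroup.mk'_apply, QuotientGroup.eq_one_iff, mem_subgroupOf]
  have hLK : L ≤ K1 := le_sup_left
  have hPK : P ≤ K1 := le_sup_right
  have hVL : V ≤ L := le_sup_left
  have h1' : im f L ≤ normalizer (im f P : Set _) := le_normalizer_im hLK hLP
  have hsolL : Group.IsSolvable ↥L := solvable_le hLB hB.sol
  obtain ⟨hb1, hb2⟩ := bounds (free_of_hom f hfs (free_of_le hK1B hB.free))
    (elem_im (hY.of_le hPY)) h1' (solvable_im hLK hsolL) (im_mono hVL)
    (elemOn_of_elem (elem_im hV))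
  set RP := pre f (rad h1') with hRP
  set i := (rad h1').relIndex (im f V) with hi
  have hquad : ⁅im f P, im f V⁆ ≤ centralizer (im f V : Set _) ⊓ im f P := by
    refine (commutator_im_le hPK (hVL.trans hLK)).trans ?_
    have hle : ⁅P, V⁆ ≤ V ⊓ P := by
      rw [commutator_le]
      intro y hy v hv
      refine ⟨?_, ?_⟩
      · have := V.mul_mem (mem_normalizer_conj (hYV (hPY hy)) hv) (V.inv_mem hv)
        exact this
      · have := P.mul_mem hy (mem_normalizer_conj (hLP (hVL hv)) (P.inv_mem hy))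
        simpa [commutatorElement_def, mul_assoc] using this
    exact le_inf ((im_mono (hle.trans inf_le_left)).trans (elem_im hV).le_centralizer)
      (im_mono (hle.trans inf_le_right))
  have hcardP : i ^ 2 * i ^ 2 ≤ Nat.card ↥(im f P) := by
    rw [← relIndex_bot_left (H := im f P),
      ← relIndex_mul_relIndex ⊥ (centralizer (im f V : Set _) ⊓ im f P) (im f P) bot_le inf_le_right,
      relIndex_bot_left, inf_relIndex_right]
    exact Nat.mul_le_mul (hb2.trans (card_le_of_le hquad)) hb1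
  have hDrel : D.relIndex P = Nat.card ↥(im f P) := by
    rw [← relIndex_bot_left (H := im f P), ← pre_relIndex hPK]
    congr 1
    ext x
    rw [mem_pre]
    exact ⟨fun hx => ⟨hDK hx, mem_bot.2 ((hfker (hDK hx)).2 hx)⟩,
      fun ⟨hx, hx1⟩ => (hfker hx).1 (mem_bot.1 hx1)⟩
  have hindex : P.relIndex Y * (i ^ 2 * i ^ 2) ≤ k * k * (k * k) := by
    refine (Nat.mul_le_mul_left _ hcardP).trans ?_
    rw [← hDrel, mul_comm, relIndex_mul_relIndex _ _ _ hDP hPY]
    exact hDk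
  -- the module induced by `Z`
  set C0 := B ⊓ centralizer (Y : Set G) with hC0
  haveI : (C0.subgroupOf B).Normal := (normal_subgroupOf_iff_le_normalizer inf_le_left).2
    (Coprime.le_normalizer_inf le_normalizer (Coprime.le_normalizer_centralizer hn))
  set g := QuotientGroup.mk' (C0.subgroupOf B) with hg
  have hgs : Function.Surjective g := QuotientGroup.mk'_surjective _
  have hgker : ∀ {x : G} (hx : x ∈ B), g ⟨x, hx⟩ = 1 ↔ x ∈ centralizer (Y : Set G) := fun {x} hx => by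
    rw [hg, QuotientGroup.mk'_apply, QuotientGroup.eq_one_iff, mem_subgroupOf]
    exact ⟨fun h => h.2, fun h => ⟨hx, h⟩⟩
  have hZe : Elem (im g Z) := by
    refine elem_iff.2 ⟨?_, ?_⟩
    · rintro _ ⟨⟨z, hzB⟩, hz, rfl⟩
      rw [← map_mul]
      exact (hgker (B.mul_mem hzB hzB)).2 ((mem_omegaMod hn hTB).1 hz).2.1
    · rintro _ ⟨⟨z, hzB⟩, hz, rfl⟩ _ ⟨⟨w, hwB⟩, hw, rfl⟩
      have e := ((mem_omegaMod hn hTB).1 hz).2.2 w (hZT hw)
      have e2 := (hgker (B.mul_mem (B.mul_mem (B.mul_mem hzB hwB) (B.inv_mem hzB)) (B.inv_mem hwB))).2 e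
      have e3 : g ⟨z, hzB⟩ * g ⟨w, hwB⟩ * (g ⟨z, hzB⟩)⁻¹ * (g ⟨w, hwB⟩)⁻¹ = 1 := by
        rw [← e2, ← map_inv, ← map_inv, ← map_mul, ← map_mul, ← map_mul]; rfl
      exact mul_inv_eq_iff_eq_mul.1 (mul_inv_eq_one.1 e3)
  have h2' : im g L ≤ normalizer (im g Z : Set _) := le_normalizer_im hLB hLZ
  obtain ⟨hz1, -⟩ := bounds (free_of_hom g hgs hB.free) hZe h2' (solvable_im hLB hsolL)
    (im_mono hVL) (elemOn_of_elem (elem_im hV))
  set RZ := pre g (rad h2') with hRZ
  set j := (rad h2').relIndex (im g V) with hj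
  have hnorm1 : L ≤ normalizer (RP : Set G) := le_normalizer_pre hLK (le_normalizer_rad h1')
  have hnorm2 : L ≤ normalizer (RZ : Set G) := le_normalizer_pre hLB (le_normalizer_rad h2')
  set K := RP ⊓ RZ with hK
  have hKB : K ≤ B := inf_le_right.trans pre_le
  have hTwo : TwoMod R K := by
    rintro x ⟨hx1, hx2⟩
    obtain ⟨hxK, hx1⟩ := mem_pre.1 hx1
    obtain ⟨hxB, hx2⟩ := mem_pre.1 hx2
    obtain ⟨n1, hn1⟩ := twoOn_rad h1' _ hx1
    obtain ⟨n2, hn2⟩ := twoOn_rad h2' _ hx2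
    have hn1' := pow_mem_of_ge hn1 (le_max_left n1 n2)
    have hn2' := pow_mem_of_ge hn2 (le_max_right n1 n2)
    set N := max n1 n2
    obtain ⟨y, hy⟩ : ∃ y, y = x ^ 2 ^ N := ⟨_, rfl⟩
    have hyK : y ∈ K1 := hy ▸ K1.pow_mem hxK _
    have hyB : y ∈ B := hK1B hyK
    have hy1 : f ⟨y, hyK⟩ ∈ centralizer (im f P : Set _) := by
      rw [show (⟨y, hyK⟩ : ↥K1) = ⟨x, hxK⟩ ^ 2 ^ N from Subtype.ext hy, map_pow]; exact hn1'
    have hy2 : g ⟨y, hyB⟩ ∈ centralizer (im g Z : Set _) := by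
      rw [show (⟨y, hyB⟩ : ↥B) = ⟨x, hxB⟩ ^ 2 ^ N from Subtype.ext hy, map_pow]; exact hn2'
    have hyy : y * y ∈ centralizer (P : Set G) := by
      refine sq_trivial (hY.of_le hPY) hDP (le_centralizer_iff.1 ?_ (mem_zpowers y)) fun p hp => ?_
      · exact le_centralizer_iff.1 (zpowers_le.2 ((sup_le hLD hPcD) hyK))
      · have hpK : p ∈ K1 := hPK hp
        refine (hfker (K1.mul_mem (K1.mul_mem (K1.mul_mem hyK hpK) (K1.inv_mem hyK)) (K1.inv_mem hpK))).1 ?_
        have e := mem_centralizer_iff.1 hy1 _ (im_mem hpK hp)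
        calc f ⟨_, _⟩ = f ⟨y, hyK⟩ * f ⟨p, hpK⟩ * (f ⟨y, hyK⟩)⁻¹ * (f ⟨p, hpK⟩)⁻¹ := by
              simp only [← map_inv, ← map_mul]; rfl
          _ = 1 := by rw [← e]; group
    have hzc : ∀ z ∈ Z, ∀ w : G, w ∈ zpowers (y * y) →
        w * z * w⁻¹ * z⁻¹ ∈ centralizer (Y : Set G) := by
      intro z hz w hw
      obtain ⟨s, rfl⟩ := mem_zpowers_iff.1 hw
      have hcm : Commute (g ⟨y, hyB⟩) (g ⟨z, hZB hz⟩) :=
        (mem_centralizer_iff.1 hy2 _ (im_mem (hZB hz) hz)).symm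
      have hcm2 := ((hcm.mul_left hcm).zpow_left s)
      have hwB : (y * y) ^ s ∈ B := B.zpow_mem (B.mul_mem hyB hyB) s
      refine (hgker (B.mul_mem (B.mul_mem (B.mul_mem hwB (hZB hz)) (B.inv_mem hwB)) (B.inv_mem (hZB hz)))).1 ?_
      have ew : g ⟨(y * y) ^ s, hwB⟩ = (g ⟨y, hyB⟩ * g ⟨y, hyB⟩) ^ s := by
        rw [← map_mul, ← map_zpow]; rfl
      calc g ⟨_, _⟩ = g ⟨(y * y) ^ s, hwB⟩ * g ⟨z, hZB hz⟩ * (g ⟨(y * y) ^ s, hwB⟩)⁻¹ *
            (g ⟨z, hZB hz⟩)⁻¹ := by simp only [← map_inv, ← map_mul]; rfl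
        _ = 1 := by rw [ew, hcm2.eq]; group
    obtain ⟨n, m, hm, e⟩ := Nat.exists_eq_two_pow_mul_odd (orderOf_pos (y * y)).ne'
    have hyY : (y * y) ^ 2 ^ n ∈ centralizer (Y : Set G) := by
      refine mem_centralizer_of_AxB hY hn hZB hZ2 (B.pow_mem (B.mul_mem hyB hyB) _) ?_
        (fun z hz => hzc z hz _ (pow_mem (mem_zpowers _) _)) (pow_mem hyy _)
      rw [orderOf_pow' _ (by positivity), e, Nat.gcd_eq_right (dvd_mul_right _ _),
        Nat.mul_div_cancel_left _ (by positivity)]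
      exact hm
    refine ⟨N + 1 + n, hCR ⟨B.pow_mem hxB _, ?_⟩⟩
    rw [show N + 1 + n = N + (1 + n) by ring, pow_add, pow_mul, ← hy, pow_add, pow_mul, pow_one, pow_two]
    exact hyY
  have hVK : K ⊓ V ≤ Q := by
    have h1 := hmv K hKB (hVL.trans (Coprime.le_normalizer_inf hnorm1 hnorm2))
      ((le_sup_right : V2 ≤ L).trans (Coprime.le_normalizer_inf hnorm1 hnorm2)) hTwo
    rintro x ⟨hxK, hxV⟩
    exact hrad ⟨hxV, h1 ⟨hxV, hxK⟩⟩
  have hkij : k ≤ i * j := by
    rw [hk, hi, hj, ← pre_relIndex (hVL.trans hLK), ← pre_relIndex hVB]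
    exact (relIndex_le_of_inf_le hVK).trans relIndex_inf_le
  have hZlt : 2 * j ^ 2 ≤ Nat.card ↥(im g Z) := by
    rw [← relIndex_bot_left (H := im g Z),
      ← relIndex_mul_relIndex ⊥ (centralizer (im g V : Set _) ⊓ im g Z) (im g Z) bot_le inf_le_right,
      relIndex_bot_left, inf_relIndex_right]
    refine Nat.mul_le_mul ?_ hz1
    have hne : im g Z ≠ ⊥ := fun h => hZC fun z hz =>
      (hgker (hZB hz)).1 (mem_bot.1 (h ▸ im_mem (hZB hz) hz))
    have hfix := fixed_ne_bot hZe hne h2' (im_mono hVL) (twoOn_of_isPGroup (elem_im hV).isPGroup)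
    rw [inf_comm] at hfix
    exact Finite.one_lt_card_iff_nontrivial.2 ((nontrivial_iff_ne_bot _).2 hfix)
  have hZsq : Nat.card ↥(im g Z) ^ 2 ≤ P.relIndex Y := by
    have e1 := hq Z hZQ (fun z hz => ((mem_omegaMod hn hTB).1 hz).2.1)
    rw [hP, inf_relIndex_right]
    refine le_trans (le_of_eq ?_) e1
    congr 1
    rw [← relIndex_bot_left (H := im g Z), ← pre_relIndex hZB]
    refine le_antisymm (relIndex_le_of_inf_le ?_) (relIndex_le_of_inf_le ?_)
    · rintro x ⟨hxc, hx⟩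
      exact mem_pre.2 ⟨hZB hx, mem_bot.2 ((hgker (hZB hx)).2 hxc)⟩
    · rintro x ⟨hx, -⟩
      obtain ⟨hxB, hx⟩ := mem_pre.1 hx
      exact (hgker hxB).1 (mem_bot.1 hx)
  have hj0 : 0 < j := Nat.pos_of_ne_zero (relIndex_ne_zero' _ _)
  have hi0 : 0 < i := Nat.pos_of_ne_zero (relIndex_ne_zero' _ _)
  have h1 : 4 * (j ^ 2 * j ^ 2) * (i ^ 2 * i ^ 2) ≤ (j ^ 2 * j ^ 2) * (i ^ 2 * i ^ 2) := by
    calc 4 * (j ^ 2 * j ^ 2) * (i ^ 2 * i ^ 2) = (2 * j ^ 2) ^ 2 * (i ^ 2 * i ^ 2) := by ring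
      _ ≤ Nat.card ↥(im g Z) ^ 2 * (i ^ 2 * i ^ 2) :=
          Nat.mul_le_mul_right _ (Nat.pow_le_pow_left hZlt 2)
      _ ≤ P.relIndex Y * (i ^ 2 * i ^ 2) := Nat.mul_le_mul_right _ hZsq
      _ ≤ k * k * (k * k) := hindex
      _ ≤ (i * j) * (i * j) * ((i * j) * (i * j)) :=
          Nat.mul_le_mul (Nat.mul_le_mul hkij hkij) (Nat.mul_le_mul hkij hkij)
      _ = _ := by ring
  have hpos : 0 < (j ^ 2 * j ^ 2) * (i ^ 2 * i ^ 2) :=
    Nat.mul_pos (Nat.mul_pos (pow_pos hj0 2) (pow_pos hj0 2)) (Nat.mul_pos (pow_pos hi0 2) (pow_pos hi0 2))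
  rw [mul_assoc] at h1
  omega

end Cfsg.Agent.S4Free
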