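import Cfsg.Agent.FG72.S4Free.BOne

/-!
A solvable group of characteristic 2 without a section `S₄` is generated by the centralizer of
`zc S` and the normalizer of `wk S`.
-/

set_option autoImplicit false
set_option linter.unusedVariables false
set_option linter.unusedSectionVars false
set_option linter.style.haveILetI false

namespace Cfsg.Agent.S4Free

open Subgroup Equiv

universe u

variable {G : Type u} [Group G] [Finite G]

/-- A Sylow 2-subgroup covers a subgroup inducing a 2-group. -/
theorem exists_mul_sylow {V R T : Subgroup G} (h : R ≤ normalizer (V : Set G)) (hT : IsSyl T R)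
    (h2 : TwoOn V R) {r : G} (hr : r ∈ R) :
    ∃ c ∈ centralizer (V : Set G), ∃ t ∈ T, r = c * t := by
  haveI : Fact (Nat.Prime 2) := ⟨Nat.prime_two⟩
  obtain ⟨P, hP⟩ := (hT.two.comap_of_injective R.subtype R.subtype_injective).exists_le_sylow
  have hPT : (P : Subgroup ↥R).map R.subtype = T :=
    hT.max _ (map_subtype_le _) (P.isPGroup'.map _) fun x hx => ⟨⟨x, hT.le hx⟩, hP hx, rfl⟩
  set g := (act h).rangeRestrict
  have hgs : Function.Surjective g := MonoidHom.rangeRestrict_surjective _
  have hI : IsPGroup 2 ↥(act h).range := by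
    rintro ⟨_, x, rfl⟩
    obtain ⟨n, hn⟩ := h2 (x : G) x.2
    refine ⟨n, Subtype.ext ?_⟩
    rw [SubmonoidClass.coe_pow, OneMemClass.coe_one]
    show (act h x) ^ 2 ^ n = 1
    rw [← map_pow, act_eq_one_iff]
    simpa using hn
  have htop : (P : Subgroup ↥R).map g = ⊤ := by
    rw [← index_eq_one]
    obtain ⟨n, hn⟩ := IsPGroup.iff_card.1 hI
    obtain ⟨m, hm, he⟩ := (Nat.dvd_prime_pow Nat.prime_two).1
      (hn ▸ index_dvd_card ((P : Subgroup ↥R).map g))
    rw [he]
    rcases Nat.eq_zero_or_pos m with rfl | hm0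
    · rfl
    · exact absurd (dvd_trans (he.symm ▸ dvd_pow_self 2 hm0.ne') (index_map_dvd _ hgs))
        P.not_dvd_index
  obtain ⟨t, ht, e⟩ : g ⟨r, hr⟩ ∈ (P : Subgroup ↥R).map g := htop ▸ mem_top _
  refine ⟨r * (t : G)⁻¹, ?_, t, hPT ▸ mem_map_of_mem R.subtype ht, by group⟩
  have e1 : act h (⟨r, hr⟩ * t⁻¹) = 1 := by
    rw [map_mul, map_inv, mul_inv_eq_one]
    exact congrArg Subtype.val e.symm
  exact (act_eq_one_iff h _).1 e1

/-- The join of the conjugates of the involutions of the centre. -/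
def vz (H S : Subgroup G) : Subgroup G := cl H (zc S)

variable {H S : Subgroup G}

theorem vz_spec (hH : Good H) (hS : IsSyl S H) :
    vz H S ≤ core H ∧ core H ≤ centralizer (vz H S : Set G) ∧ Elem (vz H S) := by
  have hQ : ∀ h ∈ H, core H ≤ cj h S := fun h hh => (hS.cj hh).core_le
  have h1 : ∀ h ∈ H, cj h (zc S) ≤ H ⊓ centralizer (core H : Set G) := fun h hh =>
    le_inf (((cj_mono zc_le).trans (cj_mono hS.le)).trans (cj_of_mem hh).le) <|
      (cj_mono zc_le_centralizer).trans <| by
        rw [cj_centralizer]; exact centralizer_le (hQ h hh)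
  have h2 : ∀ h ∈ H, cj h (zc S) ≤ core H := fun h hh => (h1 h hh).trans hH.centralizer_core
  exact ⟨cl_le h2, le_centralizer_iff.1 (cl_le fun h hh => (h1 h hh).trans inf_le_right),
    (cl_elem_sq elem_zc h2 hQ (sq_of_le_centralizer le_centralizer_zc)).1⟩

theorem vz_le_wk (hH : Good H) (hS : IsSyl S H) : vz H S ≤ wk S ∧ SQ (vz H S) S := by
  obtain ⟨hQ, hQc, hV⟩ := vz_spec hH hS
  set V := vz H S with hVdef
  have hn : H ≤ normalizer (V : Set G) := le_normalizer_cl
  set R := rad hn with hR
  set T := S ⊓ R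
  have hT := hS.inf_normal (rad_le hn) (le_normalizer_rad hn)
  have hTV : T ≤ centralizer (V : Set G) := by
    refine le_centralizer_iff.1 (cl_le fun h hh => ?_)
    obtain ⟨k, hk, x, hx, rfl⟩ := hS.frattini (rad_le hn) (le_normalizer_rad hn) hh
    obtain ⟨c, hc, t, ht, rfl⟩ := exists_mul_sylow ((rad_le hn).trans hn) hT (twoOn_rad hn) hk
    have htx : t * x ∈ H ⊓ normalizer (T : Set G) :=
      mul_mem ⟨hS.le ht.1, le_normalizer ht⟩ hx
    have h1 : cj (t * x) (zc S) ≤ centralizer (T : Set G) := by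
      rw [← cj_eq_self.2 htx.2, ← cj_centralizer]
      exact cj_mono (zc_le_centralizer.trans (centralizer_le inf_le_left))
    have h2 : cj (t * x) (zc S) ≤ V := cj_le_cl htx.1
    rintro _ ⟨z, hz, rfl⟩
    have hz' : t * x * z * (t * x)⁻¹ ∈ V := h2 (conj_mem_cj hz)
    have e : c * (t * x * z * (t * x)⁻¹) * c⁻¹ = t * x * z * (t * x)⁻¹ := by
      rw [← mem_centralizer_iff.1 hc _ hz', mul_inv_cancel_right]
    show c * t * x * z * (c * t * x)⁻¹ ∈ centralizer (T : Set G)
    rw [show c * t * x * z * (c * t * x)⁻¹ = c * (t * x * z * (t * x)⁻¹) * c⁻¹ by group, e]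
    exact h1 (conj_mem_cj hz)
  have hrad : R ≤ centralizer (V : Set G) := fun r hr => by
    obtain ⟨c, hc, t, ht, rfl⟩ := exists_mul_sylow ((rad_le hn).trans hn) hT (twoOn_rad hn) hr
    exact mul_mem hc (hTV ht)
  have hq : SQ V S := sq_of_rad_le' hH.free le_rfl (hQ.trans core_le) hV hn hH.sol hrad hS.le
  exact ⟨le_wk hV (hQ.trans hS.core_le) (hS.le.trans hn) hq, hq⟩

/-- The generation statement. -/
theorem gen_aux : ∀ (n : ℕ) (H : Subgroup G), Nat.card ↥H ≤ n → Good H → IsSyl S H →
    H ≤ (H ⊓ centralizer (zc S : Set G)) ⊔ (H ⊓ normalizer (wk S : Set G)) := by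
  intro n
  induction n with
  | zero => intro H hn; exact absurd (Nat.card_pos (α := ↥H)) (by omega)
  | succ n ih =>
    intro H hn hH hS
    obtain ⟨hVQ, hQV, hV⟩ := vz_spec hH hS
    obtain ⟨hVW, hq⟩ := vz_le_wk hH hS
    set V := vz H S
    set Q := core H
    set C0 := H ⊓ centralizer (V : Set G) with hC0
    have hnV : H ≤ normalizer (V : Set G) := le_normalizer_cl
    have hC0n : H ≤ normalizer (C0 : Set G) :=
      Coprime.le_normalizer_inf le_normalizer (Coprime.le_normalizer_centralizer hnV)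
    set T1 := S ⊓ C0 with hT1
    set H1 := H ⊓ normalizer (T1 : Set G) with hH1
    have hC0Z : C0 ≤ H ⊓ centralizer (zc S : Set G) :=
      inf_le_inf_left _ (centralizer_le le_cl)
    have hQT : Q ≤ T1 := le_inf hS.core_le (le_inf core_le hQV)
    have hSH1 : S ≤ H1 := le_inf hS.le
      (Coprime.le_normalizer_inf le_normalizer (hS.le.trans hC0n))
    have hfr : H ≤ C0 ⊔ H1 := fun h hh => by
      obtain ⟨k, hk, x, hx, rfl⟩ := hS.frattini inf_le_left hC0n hh
      exact mul_mem_sup hk hx
    rcases (inf_le_left : H1 ≤ H).lt_or_eq with hlt | heq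
    · have hH1n : Nat.card ↥H1 ≤ n := by
        have : Nat.card ↥H1 < Nat.card ↥H := by
          by_contra hge
          exact hlt.ne (eq_of_le_of_card_ge hlt.le (not_lt.1 hge))
        omega
      have h1 := ih H1 hH1n (hH.of_normalizer_ge inf_le_left (hS.core_le.trans hSH1))
        (hS.mono inf_le_left hSH1)
      exact hfr.trans (sup_le (hC0Z.trans le_sup_left) (h1.trans
        (sup_le_sup (inf_le_inf_right _ inf_le_left) (inf_le_inf_right _ inf_le_left))))
    have hTQ : T1 = Q := le_antisymm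
      (le_core (inf_le_left.trans hS.le) (hS.two.to_le inf_le_left) (heq.ge.trans inf_le_right)) hQT
    set W := wk S with hW
    have hWQ : W ≤ Q := le_core_of_sq hH hS wk_spec.1 wk_le le_normalizer_wk wk_spec.2
    have hconj : ∀ h ∈ H, cj h W ≤ Q := fun h hh =>
      (cj_mono hWQ).trans (cj_eq_self.2 (le_normalizer_core hh)).le
    obtain ⟨hV'e, hV'q⟩ := cl_elem_sq (T := Q) wk_spec.1 hconj (fun h hh => (hS.cj hh).core_le)
      wk_spec.2
    set V' := cl H W with hV'
    have hV'Q : V' ≤ Q := cl_le hconj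
    have hVV' : V ≤ V' := hVW.trans le_cl
    have hq' : SQ V' S := by
      intro B hB hBe
      have e1 := hV'q (Q ⊓ B) inf_le_left (hBe.mono le_rfl inf_le_right)
      have e2 := hq B hB (hBe.mono hVV' le_rfl)
      have e3 : Q.relIndex B ≤ (centralizer (V : Set G)).relIndex B :=
        relIndex_le_of_inf_le fun x hx => hTQ.le ⟨hB hx.2, hS.le (hB hx.2), hx.1⟩
      have e4 : (centralizer (V' : Set G)).relIndex B ≤
          (centralizer (V' : Set G)).relIndex (Q ⊓ B) * Q.relIndex B := by
        rw [relIndex_inf_mul_relIndex]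
        exact relIndex_le_of_le_left inf_le_left (relIndex_ne_zero' _ _)
      refine (Nat.pow_le_pow_left e4 2).trans ?_
      rw [mul_pow]
      refine (Nat.mul_le_mul e1 ((Nat.pow_le_pow_left e3 2).trans e2)).trans ?_
      set W1 := centralizer ((Q ⊓ B : Subgroup G) : Set G) ⊓ V' with hW1
      have hsub : centralizer (B : Set G) ⊓ V' ≤ W1 :=
        inf_le_inf_right _ (centralizer_le inf_le_right)
      rw [← inf_relIndex_right (centralizer (B : Set G)) V',
        ← relIndex_mul_relIndex _ _ _ hsub inf_le_right, hW1, inf_relIndex_right, mul_comm]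
      refine Nat.mul_le_mul_right _ ?_
      have hVW1 : V ≤ W1 := le_inf (le_centralizer_iff.1 (inf_le_left.trans hQV)) hVV'
      refine le_trans (le_of_eq ?_) (relIndex_le_of_le_right hVW1 (relIndex_ne_zero' _ _))
      rw [← inf_relIndex_right (centralizer (B : Set G)),
        ← inf_relIndex_right (centralizer (B : Set G) ⊓ V'), inf_assoc, inf_eq_right.2 hVV']
    have hle : V' ≤ W := le_wk hV'e (hV'Q.trans hS.core_le) (hS.le.trans le_normalizer_cl) hq'
    have hWn : H ≤ normalizer (W : Set G) := by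
      rw [le_antisymm le_cl hle]
      exact le_normalizer_cl
    exact le_trans (le_inf le_rfl hWn) le_sup_right

theorem gen (hH : Good H) (hS : IsSyl S H) :
    H ≤ (H ⊓ centralizer (zc S : Set G)) ⊔ (H ⊓ normalizer (wk S : Set G)) :=
  gen_aux _ H le_rfl hH hS

end Cfsg.Agent.S4Free
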