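import Cfsg.Agent.FG72.S4Free.SQ

/-!
Solvable subgroups of characteristic 2 without a section `S₄` and their Sylow 2-subgroups.
-/

set_option autoImplicit false
set_option linter.unusedVariables false
set_option linter.unusedSectionVars false
set_option linter.style.haveILetI false

namespace Cfsg.Agent.S4Free

open Subgroup Equiv

universe u

variable {G : Type u} [Group G] [Finite G]

theorem relIndex_le_of_inf_le {A A' B : Subgroup G} (h : A ⊓ B ≤ A') :
    A'.relIndex B ≤ A.relIndex B := by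
  rw [← inf_relIndex_right A]
  exact relIndex_le_of_le_left h (relIndex_ne_zero' _ _)

theorem bounds' {K V H B : Subgroup G} (hfree : ¬ Cfsg.Involves (Perm (Fin 4)) ↥K) (hHK : H ≤ K)
    (hVK : V ≤ K) (hV : Elem V) (h : H ≤ normalizer (V : Set G)) (hsol : Group.IsSolvable H)
    (hB : B ≤ H) (hBe : ElemOn V B) :
    (rad h).relIndex B ^ 2 ≤ (centralizer (B : Set G)).relIndex V ∧
      (rad h).relIndex B ^ 2 ≤ Nat.card ↥⁅V, B⁆ := by
  let f := MonoidHom.id ↥K
  have hBK : B ≤ K := hB.trans hHK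
  have h' : im f H ≤ normalizer (im f V : Set ↥K) := le_normalizer_im hHK h
  obtain ⟨b1, b2⟩ := bounds hfree (elem_im hV) h' (solvable_im hHK hsol) (im_mono hB) (elemOn_im hBe)
  have hpH : pre f (rad h') ≤ H := fun x hx => by
    obtain ⟨hxK, hx⟩ := mem_pre.1 hx
    obtain ⟨y, hyK, hy, e⟩ := mem_im.1 (rad_le h' hx)
    have : y = x := congrArg Subtype.val e
    exact this ▸ hy
  have hrad : pre f (rad h') ≤ rad h := by
    refine le_rad h hpH ?_ ?_
    · intro x hx
      refine cj_eq_self.1 (eq_of_le_of_card_ge ?_ card_cj.ge)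
      rintro _ ⟨y, hy, rfl⟩
      obtain ⟨hyK, hy⟩ := mem_pre.1 hy
      refine mem_pre.2 ⟨K.mul_mem (K.mul_mem (hHK hx) hyK) (K.inv_mem (hHK hx)), ?_⟩
      exact (mem_normalizer_iff.1 (le_normalizer_rad h' (im_mem (hHK hx) hx)) _).1 hy
    · intro k hk
      obtain ⟨hkK, hk⟩ := mem_pre.1 hk
      obtain ⟨n, hn⟩ := twoOn_rad h' _ hk
      refine ⟨n, mem_centralizer_iff.2 fun v hv => ?_⟩
      exact congrArg Subtype.val (mem_centralizer_iff.1 hn _ (im_mem (hVK hv) hv))
  have hidx : (rad h).relIndex B ≤ (rad h').relIndex (im f B) := by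
    rw [← pre_relIndex hBK]
    exact relIndex_le_of_le_left hrad (relIndex_ne_zero' _ _)
  refine ⟨(Nat.pow_le_pow_left hidx 2).trans (b1.trans ?_),
    (Nat.pow_le_pow_left hidx 2).trans (b2.trans ?_)⟩
  · rw [← pre_relIndex hVK]
    refine relIndex_le_of_inf_le ?_
    rintro v ⟨hvC, hv⟩
    refine mem_pre.2 ⟨hVK hv, mem_centralizer_iff.2 ?_⟩
    rintro _ ⟨b, hb, rfl⟩
    exact Subtype.ext (mem_centralizer_iff.1 hvC b hb)
  · refine (card_le_of_le (commutator_im_le hVK hBK)).trans ?_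
    have hle : ⁅V, B⁆ ≤ K := (commutator_mono hVK hBK).trans (commutator_le_self K)
    rw [card_eq_im_mul (f := f) hle]
    exact Nat.le_mul_of_pos_right _ Nat.card_pos

theorem sq_of_rad_le' {K V H T : Subgroup G} (hfree : ¬ Cfsg.Involves (Perm (Fin 4)) ↥K)
    (hHK : H ≤ K) (hVK : V ≤ K) (hV : Elem V) (h : H ≤ normalizer (V : Set G))
    (hsol : Group.IsSolvable H) (hrad : rad h ≤ centralizer (V : Set G)) (hT : T ≤ H) : SQ V T :=
  fun B hB hBe => (Nat.pow_le_pow_left (relIndex_le_of_inf_le (inf_le_left.trans hrad)) 2).trans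
    (bounds' hfree hHK hVK hV h hsol (hB.trans hT) hBe).1

/-- Solvable, of characteristic 2, without a section `S₄`. -/
structure Good (H : Subgroup G) : Prop where
  sol : Group.IsSolvable H
  char2 : Cfsg.IsOfCharacteristicTwo ↥H
  free : ¬ Cfsg.Involves (Perm (Fin 4)) ↥H

/-- `O₂(H)` as a subgroup of the ambient group. -/
def core (H : Subgroup G) : Subgroup G := (Cfsg.pCore 2 ↥H).map H.subtype

variable {H K S P : Subgroup G}

theorem core_le : core H ≤ H := map_subtype_le _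

theorem le_normalizer_core : H ≤ normalizer (core H : Set G) :=
  le_normalizer_map_subtype _ (Thompson.instPCoreNormal (p := 2) (G := ↥H))

theorem isPGroup_core : IsPGroup 2 ↥(core H) := Thompson.isPGroup_pCore.map _

theorem le_core (hK : K ≤ H) (hp : IsPGroup 2 K) (hn : H ≤ normalizer (K : Set G)) :
    K ≤ core H := fun k hk =>
  ⟨⟨k, hK hk⟩, Thompson.le_pCore ((normal_subgroupOf_iff_le_normalizer hK).2 hn)
    (hp.comap_of_injective _ H.subtype_injective) hk, rfl⟩

theorem core_normalizer_le : normalizer (H : Set G) ≤ normalizer (core H : Set G) := by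
  intro g hg
  refine cj_eq_self.1 (eq_of_le_of_card_ge ?_ card_cj.ge)
  refine le_core ((cj_mono core_le).trans (cj_eq_self.2 hg).le) (isPGroup_core.map _) ?_
  calc H = cj g H := (cj_eq_self.2 hg).symm
    _ ≤ cj g (normalizer (core H : Set G)) := cj_mono le_normalizer_core
    _ = _ := cj_normalizer

theorem Good.centralizer_core (hH : Good H) :
    H ⊓ centralizer (core H : Set G) ≤ core H := by
  rintro x ⟨hx, hxc⟩
  refine ⟨⟨x, hx⟩, hH.char2 (mem_centralizer_iff.2 fun y hy => ?_), rfl⟩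
  exact Subtype.ext (mem_centralizer_iff.1 hxc y ⟨y, hy, rfl⟩)

/-- `S` is a Sylow 2-subgroup of `H`. -/
structure IsSyl (S H : Subgroup G) : Prop where
  le : S ≤ H
  two : IsPGroup 2 S
  max : ∀ P ≤ H, IsPGroup 2 P → S ≤ P → P = S

theorem exists_isSyl_ge (hP : IsPGroup 2 P) (hPH : P ≤ H) : ∃ S, P ≤ S ∧ IsSyl S H := by
  obtain ⟨Q, hQ⟩ := (hP.comap_of_injective H.subtype H.subtype_injective).exists_le_sylow
  refine ⟨(Q : Subgroup ↥H).map H.subtype, fun x hx => ⟨⟨x, hPH hx⟩, hQ hx, rfl⟩,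
    map_subtype_le _, Q.isPGroup'.map _, fun R hR hR2 hle => ?_⟩
  have h1 : (Q : Subgroup ↥H) ≤ R.subgroupOf H := fun x hx => hle ⟨x, hx, rfl⟩
  have h2 := Q.is_maximal' (hR2.comap_of_injective H.subtype H.subtype_injective) h1
  refine le_antisymm (fun x hx => ?_) hle
  exact ⟨⟨x, hR hx⟩, h2.le hx, rfl⟩

theorem IsSyl.exists_cj (hS : IsSyl S H) (hP : IsPGroup 2 P) (hPH : P ≤ H) :
    ∃ h ∈ H, P ≤ cj h S := by
  haveI : Fact (Nat.Prime 2) := ⟨Nat.prime_two⟩
  obtain ⟨A, hA⟩ := (hS.two.comap_of_injective H.subtype H.subtype_injective).exists_le_sylow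
  have hAS : (A : Subgroup ↥H).map H.subtype = S :=
    hS.max _ (map_subtype_le _) (A.isPGroup'.map _) fun x hx => ⟨⟨x, hS.le hx⟩, hA hx, rfl⟩
  obtain ⟨h, hh⟩ := exists_cj_le_sylow (S := A) (hP.comap_of_injective H.subtype H.subtype_injective)
  refine ⟨h, h.2, fun x hx => ?_⟩
  rw [mem_cj, ← hAS]
  exact ⟨_, mem_cj.1 (hh (show (⟨x, hPH hx⟩ : ↥H) ∈ P.comap H.subtype from hx)), rfl⟩

theorem IsSyl.mono (hS : IsSyl S H) (hK : K ≤ H) (hSK : S ≤ K) : IsSyl S K :=
  ⟨hSK, hS.two, fun P hP => hS.max P (hP.trans hK)⟩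

theorem IsSyl.cj (hS : IsSyl S H) {h : G} (hh : h ∈ H) : IsSyl (S4Free.cj h S) H :=
  ⟨(cj_mono hS.le).trans (cj_of_mem hh).le, hS.two.map _, fun P hP hP2 hle => by
    rw [← hS.max (S4Free.cj h⁻¹ P) ((cj_mono hP).trans (cj_of_mem (H.inv_mem hh)).le)
      (hP2.map _) (cj_le_iff.1 hle), cj_cj_inv]⟩

theorem IsSyl.core_le (hS : IsSyl S H) : core H ≤ S := by
  obtain ⟨h, hh, hle⟩ := hS.exists_cj isPGroup_core S4Free.core_le
  refine le_trans ?_ ((cj_mono hle).trans (cj_inv_cj (g := h)).le)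
  rw [cj_eq_self.2 (le_normalizer_core (H.inv_mem hh))]

theorem IsSyl.inf_normal (hS : IsSyl S H) (hK : K ≤ H) (hn : H ≤ normalizer (K : Set G)) :
    IsSyl (S ⊓ K) K := by
  refine ⟨inf_le_right, hS.two.to_le inf_le_left, fun P hP hP2 hle => ?_⟩
  obtain ⟨h, hh, hPS⟩ := hS.exists_cj hP2 (hP.trans hK)
  refine (eq_of_le_of_card_ge hle ?_).symm
  refine (card_le_of_le (le_inf hPS hP)).trans (le_of_eq ?_)
  conv_lhs => rw [← cj_eq_self.2 (hn hh), ← cj_inf, card_cj]

theorem IsSyl.frattini (hS : IsSyl S H) (hK : K ≤ H) (hn : H ≤ normalizer (K : Set G)) {h : G}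
    (hh : h ∈ H) : ∃ k ∈ K, ∃ x ∈ H ⊓ normalizer ((S ⊓ K : Subgroup G) : Set G), h = k * x := by
  have hT := hS.inf_normal hK hn
  obtain ⟨k, hk, hle⟩ := hT.exists_cj (P := S4Free.cj h (S ⊓ K)) (hT.two.map _)
    ((cj_mono inf_le_right).trans (cj_eq_self.2 (hn hh)).le)
  have he := eq_of_le_of_card_ge hle (card_cj.trans card_cj.symm).ge
  refine ⟨k, hk, k⁻¹ * h, ⟨H.mul_mem (H.inv_mem (hK hk)) hh, cj_eq_self.1 ?_⟩, by group⟩
  rw [← cj_cj, he, cj_inv_cj]

theorem Good.of_normalizer_ge (hH : Good H) (hK : K ≤ H) (hQ : core H ≤ K) : Good K := by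
  refine ⟨solvable_le hK hH.sol, ?_, fun h => hH.free (LocalEven61.involves_trans h
    (LocalEven61.involves_of_hom (MonoidHom.id ↥K) (fun a => ⟨a, rfl⟩) (inclusion hK)
      (inclusion_injective hK)))⟩
  have hQK : core H ≤ core K :=
    le_core hQ isPGroup_core (hK.trans le_normalizer_core)
  intro x hx
  have hx1 : (x : G) ∈ core H := hH.centralizer_core ⟨hK x.2, mem_centralizer_iff.2 fun y hy => ?_⟩
  · obtain ⟨y, hy, e⟩ := hQK hx1
    rwa [← Subtype.ext e]
  · obtain ⟨z, hz, rfl⟩ := hQK hy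
    exact congrArg Subtype.val (mem_centralizer_iff.1 hx z hz)

/-- A normal subgroup of a group of characteristic 2 is one. -/
theorem Good.of_normal (hH : Good H) (hK : K ≤ H) (hn : H ≤ normalizer (K : Set G)) : Good K := by
  refine ⟨solvable_le hK hH.sol, ?_, fun h => hH.free (LocalEven61.involves_trans h
    (LocalEven61.involves_of_hom (MonoidHom.id ↥K) (fun a => ⟨a, rfl⟩) (inclusion hK)
      (inclusion_injective hK)))⟩
  set Q := core H
  set Q0 := core K
  have hQ0Q : Q0 ≤ Q := le_core (core_le.trans hK) isPGroup_core (hn.trans core_normalizer_le)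
  set D := K ⊓ centralizer (Q0 : Set G)
  intro x hx
  -- the commutator of `D` with `Q` lies in `Q₀`
  have hQK : Q ⊓ K ≤ Q0 := le_core inf_le_right (isPGroup_core.to_le inf_le_left)
    (Coprime.le_normalizer_inf (hK.trans le_normalizer_core) le_normalizer)
  have hxD : (x : G) ∈ D := ⟨x.2, mem_centralizer_iff.2 fun y hy => by
    obtain ⟨z, hz, rfl⟩ := hy
    exact congrArg Subtype.val (mem_centralizer_iff.1 hx z hz)⟩
  have hcomm : ∀ d ∈ D, ∀ q ∈ Q, d * q * d⁻¹ * q⁻¹ ∈ Q0 := fun d hd q hq => by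
    refine hQK ⟨Q.mul_mem (mem_normalizer_conj (le_normalizer_core (hK hd.1)) hq) (Q.inv_mem hq), ?_⟩
    have : q * d⁻¹ * q⁻¹ ∈ K := mem_normalizer_conj (hn (core_le hq)) (K.inv_mem hd.1)
    have h2 := K.mul_mem hd.1 this
    simp only [mul_assoc] at h2 ⊢
    exact h2
  -- elements of odd order of `D` centralize `Q`
  have hodd : ∀ d ∈ D, Odd (orderOf d) → d = 1 := by
    intro d hd ho
    have hdQ : d ∈ centralizer (Q : Set G) := by
      refine mem_centralizer_iff.2 fun q hq => ?_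
      set c := d * q * d⁻¹ * q⁻¹ with hc
      have hdc : Commute d c := (mem_centralizer_iff.1 hd.2 c (hcomm d hd q hq)).symm
      have hpow : ∀ n : ℕ, d ^ n * q * (d ^ n)⁻¹ = c ^ n * q := by
        intro n
        induction n with
        | zero => simp
        | succ n ih =>
          rw [pow_succ', pow_succ c]
          calc d * d ^ n * q * (d * d ^ n)⁻¹ = d * (d ^ n * q * (d ^ n)⁻¹) * d⁻¹ := by group
            _ = d * (c ^ n * q) * d⁻¹ := by rw [ih]
            _ = (d * c ^ n) * q * d⁻¹ := by group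
            _ = (c ^ n * d) * q * d⁻¹ := by rw [(hdc.pow_right n).eq]
            _ = c ^ n * c * q := by rw [hc]; group
      have h1 := hpow (orderOf d)
      rw [pow_orderOf_eq_one, one_mul, inv_one, mul_one] at h1
      have hcn : c ^ orderOf d = 1 := by
        have := mul_right_cancel (h1.symm.trans (one_mul q).symm)
        exact this
      obtain ⟨k, hk⟩ := isPGroup_core ⟨c, hcomm d hd q hq⟩
      have hc2 : c ^ 2 ^ k = 1 := congrArg Subtype.val hk
      have hg : Nat.gcd (orderOf d) (2 ^ k) = 1 :=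
        (Nat.Coprime.pow_right k (Nat.coprime_two_right.2 ho))
      have hc1 : c = 1 := by
        have := Nat.dvd_gcd (orderOf_dvd_of_pow_eq_one hcn) (orderOf_dvd_of_pow_eq_one hc2)
        rw [hg, Nat.dvd_one, orderOf_eq_one_iff] at this
        exact this
      have e : d * q * d⁻¹ * q⁻¹ = 1 := hc ▸ hc1
      calc q * d = (d * q * d⁻¹ * q⁻¹) * q * d := by rw [e, one_mul]
        _ = d * q := by group
    obtain ⟨k, hk⟩ := isPGroup_core ⟨d, hH.centralizer_core ⟨hK hd.1, hdQ⟩⟩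
    have h2 : d ^ 2 ^ k = 1 := congrArg Subtype.val hk
    have hg : Nat.gcd (orderOf d) (2 ^ k) = 1 := Nat.Coprime.pow_right k (Nat.coprime_two_right.2 ho)
    have := Nat.dvd_gcd dvd_rfl (orderOf_dvd_of_pow_eq_one h2)
    rw [hg, Nat.dvd_one, orderOf_eq_one_iff] at this
    exact this
  have hD2 : IsPGroup 2 ↥D := by
    rintro ⟨d, hd⟩
    obtain ⟨n, m, hm, e⟩ := Nat.exists_eq_two_pow_mul_odd (orderOf_pos d).ne'
    refine ⟨n, Subtype.ext ?_⟩
    show d ^ 2 ^ n = 1
    refine hodd _ (D.pow_mem hd _) ?_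
    rw [orderOf_pow' _ (by positivity), e, Nat.gcd_eq_right (dvd_mul_right _ _),
      Nat.mul_div_cancel_left _ (by positivity)]
    exact hm
  have hDn : K ≤ normalizer (D : Set G) := Coprime.le_normalizer_inf le_normalizer
    (Coprime.le_normalizer_centralizer le_normalizer_core)
  obtain ⟨y, hy, e⟩ := le_core inf_le_left hD2 hDn hxD
  rwa [← Subtype.ext e]

end Cfsg.Agent.S4Free
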