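import Cfsg.Agent.FG72.S4Free.Gen
import Cfsg.Agent.FG72.S4Free.Equal
import Mathlib.Tactic.Ring

/-!
All conjugates of `wk S` under the group generated by `C(zc S)` and `N(wk S)` lie in `S`.
-/

set_option autoImplicit false
set_option linter.unusedVariables false
set_option linter.unusedSectionVars false
set_option linter.style.haveILetI false

namespace Cfsg.Agent.S4Free

open Subgroup Equiv

universe u

variable {G : Type u} [Group G] [Finite G]

/-- A central-by-2 subgroup modulo the 2-core meets a suitable 2-subgroup in the 2-core. -/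
theorem mem_core_of_kernel {B C0 K P : Subgroup G} (hB : Good B) (hC0 : C0 ≤ B)
    (hC0n : B ≤ normalizer (C0 : Set G)) (hK : K ≤ B) (hKn : B ≤ normalizer (K : Set G))
    (h2 : TwoMod C0 K) (hP : IsPGroup 2 P) (hC0P : C0 ≤ normalizer (P : Set G)) {x : G}
    (hxP : x ∈ P) (hxK : x ∈ K) : x ∈ core B := by
  haveI : Fact (Nat.Prime 2) := ⟨Nat.prime_two⟩
  set Q := core B with hQdef
  have hQn : B ≤ normalizer (Q : Set G) := le_normalizer_core
  -- `T₀ = C₀ ⊓ P` is in the core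
  have hT0 : C0 ⊓ P ≤ Q := by
    refine (le_core inf_le_left (hP.to_le inf_le_right)
      (Coprime.le_normalizer_inf le_normalizer hC0P)).trans ?_
    exact le_core (core_le.trans hC0) isPGroup_core (hC0n.trans core_normalizer_le)
  set L := K ⊓ trivOn C0 Q with hL
  have hxB : x ∈ B := hK hxK
  have hxL : x ∈ L := by
    refine ⟨hxK, mem_trivOn.2 ⟨hQn hxB, hC0n hxB, fun c hc => hT0 ⟨?_, ?_⟩⟩⟩
    · exact C0.mul_mem (mem_normalizer_conj (hC0n hxB) hc) (C0.inv_mem hc)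
    · have := P.mul_mem hxP (mem_normalizer_conj (hC0P hc) (P.inv_mem hxP))
      simp only [mul_assoc] at this ⊢
      exact this
  have hLn : B ≤ normalizer (L : Set G) := by
    refine le_normalizer_of_cj_le fun b hb => ?_
    rintro _ ⟨y, ⟨hyK, hy⟩, rfl⟩
    obtain ⟨hy1, hy2, hy3⟩ := mem_trivOn.1 hy
    refine ⟨mem_normalizer_conj (hKn hb) hyK, mem_trivOn.2 ⟨?_, ?_, fun c hc => ?_⟩⟩
    · exact mul_mem (mul_mem (hQn hb) hy1) (inv_mem (hQn hb))
    · exact mul_mem (mul_mem (hC0n hb) hy2) (inv_mem (hC0n hb))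
    · have h1 := hy3 _ (mem_normalizer_conj (inv_mem (hC0n hb)) hc)
      have h3 := mem_normalizer_conj (hQn hb) h1
      convert h3 using 1
      show b * y * b⁻¹ * c * (b * y * b⁻¹)⁻¹ * c⁻¹ = _
      group
  haveI : (Q.subgroupOf B).Normal := (normal_subgroupOf_iff_le_normalizer core_le).2 hQn
  set f := QuotientGroup.mk' (Q.subgroupOf B) with hf
  have hfs : Function.Surjective f := QuotientGroup.mk'_surjective _
  have hker : ∀ {y : G} (hy : y ∈ B), f ⟨y, hy⟩ = 1 ↔ y ∈ Q := fun {y} hy => by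
    rw [hf, QuotientGroup.mk'_apply, QuotientGroup.eq_one_iff, mem_subgroupOf]
  have hO : Cfsg.pCore 2 (↥B ⧸ Q.subgroupOf B) = ⊥ := by
    refine Thompson.pCore_quotient_eq_bot _ (isPGroup_core.comap_of_injective B.subtype
      B.subtype_injective) fun y hy => ⟨y, hy, rfl⟩
  set Lb := im f L with hLb
  have hLbn : Lb.Normal := ((normal_subgroupOf_iff_le_normalizer (inf_le_left.trans hK)).2 hLn).map f hfs
  have hcen : IsPGroup 2 (↥Lb ⧸ center ↥Lb) := by
    intro q
    obtain ⟨⟨_, ⟨l, hlB⟩, hl, rfl⟩, rfl⟩ := QuotientGroup.mk_surjective q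
    obtain ⟨n, hn⟩ := h2 l hl.1
    refine ⟨n, ?_⟩
    rw [← QuotientGroup.mk_pow, QuotientGroup.eq_one_iff, mem_center_iff]
    rintro ⟨_, ⟨y, hyB⟩, hy, rfl⟩
    refine Subtype.ext ?_
    show f ⟨y, hyB⟩ * (f ⟨l, hlB⟩) ^ 2 ^ n = (f ⟨l, hlB⟩) ^ 2 ^ n * f ⟨y, hyB⟩
    rw [← map_pow]
    have e := (mem_trivOn.1 hy.2).2.2 _ hn
    have hcB : l ^ 2 ^ n ∈ B := hC0 hn
    have e2 := (hker (B.mul_mem (B.mul_mem (B.mul_mem hyB hcB) (B.inv_mem hyB)) (B.inv_mem hcB))).2 e
    have e3 : f ⟨y, hyB⟩ * f (⟨l, hlB⟩ ^ 2 ^ n) * (f ⟨y, hyB⟩)⁻¹ * (f (⟨l, hlB⟩ ^ 2 ^ n))⁻¹ = 1 := by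
      rw [← e2, ← map_inv, ← map_inv, ← map_mul, ← map_mul, ← map_mul]; rfl
    exact mul_inv_eq_iff_eq_mul.1 (mul_inv_eq_one.1 e3)
  haveI : Group.IsNilpotent (↥Lb ⧸ center ↥Lb) := hcen.isNilpotent
  have hnil : Group.IsNilpotent ↥Lb := Subgroup.isNilpotent_of_ker_le_center
    (QuotientGroup.mk' (center ↥Lb)) (QuotientGroup.ker_mk' _).le
  have hF := odd_card_fitting hO
  have hxF : f ⟨x, hxB⟩ ∈ Cfsg.fittingSubgroup (↥B ⧸ Q.subgroupOf B) :=
    Fitting.le_fitting hLbn hnil (im_mem hxB hxL)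
  obtain ⟨n, hn⟩ := hP ⟨x, hxP⟩
  have hxn : x ^ 2 ^ n = 1 := congrArg Subtype.val hn
  have e1 : (f ⟨x, hxB⟩) ^ 2 ^ n = 1 := by
    rw [← map_pow, show (⟨x, hxB⟩ : ↥B) ^ 2 ^ n = 1 from Subtype.ext hxn, map_one]
  have e2 : (f ⟨x, hxB⟩) ^ Nat.card ↥(Cfsg.fittingSubgroup (↥B ⧸ Q.subgroupOf B)) = 1 :=
    congrArg Subtype.val (pow_card_eq_one' (x := (⟨f ⟨x, hxB⟩, hxF⟩ :
      ↥(Cfsg.fittingSubgroup (↥B ⧸ Q.subgroupOf B)))))
  have hd := Nat.dvd_gcd (orderOf_dvd_of_pow_eq_one e2) (orderOf_dvd_of_pow_eq_one e1)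
  rw [Nat.Coprime.pow_right n (Nat.coprime_two_right.2 hF), Nat.dvd_one, orderOf_eq_one_iff] at hd
  exact (hker hxB).1 hd

/-- Products of alternating elements of `B` and `A`. -/
def InS (B A : Subgroup G) : ℕ → G → Prop
  | 0, g => g ∈ B
  | m + 1, g => ∃ h, InS B A m h ∧ ∃ a ∈ A, ∃ b ∈ B, g = h * a * b

variable {S B A W : Subgroup G} {m n : ℕ} {g h : G}

theorem InS.mul_right (hg : InS B A m g) {b : G} (hb : b ∈ B) : InS B A m (g * b) := by
  cases m with
  | zero => exact B.mul_mem hg hb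
  | succ m =>
    obtain ⟨h, hh, a, ha, b', hb', rfl⟩ := hg
    exact ⟨h, hh, a, ha, b' * b, B.mul_mem hb' hb, by simp only [mul_assoc]⟩

theorem InS.mul_left {b : G} (hb : b ∈ B) : ∀ {m : ℕ} {g : G}, InS B A m g → InS B A m (b * g)
  | 0, g, hg => B.mul_mem hb hg
  | m + 1, g, hg => by
    obtain ⟨h, hh, a, ha, b', hb', rfl⟩ := hg
    exact ⟨b * h, InS.mul_left hb hh, a, ha, b', hb', by simp only [mul_assoc]⟩

theorem InS.succ' {a b : G} (ha : a ∈ A) (hb : b ∈ B) :
    ∀ {m : ℕ} {h : G}, InS B A m h → InS B A (m + 1) (b * a * h)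
  | 0, h, hh => ⟨b, hb, a, ha, h, hh, rfl⟩
  | m + 1, h, hh => by
    obtain ⟨h', hh', a', ha', b', hb', rfl⟩ := hh
    exact ⟨b * a * h', InS.succ' ha hb hh', a', ha', b', hb', by simp only [mul_assoc]⟩

theorem InS.inv : ∀ {m : ℕ} {g : G}, InS B A m g → InS B A m g⁻¹
  | 0, g, hg => B.inv_mem hg
  | m + 1, g, hg => by
    obtain ⟨h, hh, a, ha, b, hb, rfl⟩ := hg
    rw [mul_inv_rev, mul_inv_rev, ← mul_assoc]
    exact InS.succ' (A.inv_mem ha) (B.inv_mem hb) (InS.inv hh)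

theorem InS.mul (hg : InS B A m g) : ∀ {n : ℕ} {h : G}, InS B A n h → InS B A (m + n) (g * h)
  | 0, h, hh => hg.mul_right hh
  | n + 1, h, hh => by
    obtain ⟨h', hh', a, ha, b, hb, rfl⟩ := hh
    exact ⟨g * h', InS.mul hg hh', a, ha, b, hb, by simp only [mul_assoc]⟩

theorem exists_inS (hg : g ∈ B ⊔ A) : ∃ m, InS B A m g := by
  rw [sup_eq_closure] at hg
  induction hg using closure_induction with
  | mem x hx =>
    rcases hx with hx | hx
    · exact ⟨0, hx⟩
    · exact ⟨1, 1, B.one_mem, x, hx, 1, B.one_mem, by simp⟩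
  | one => exact ⟨0, B.one_mem⟩
  | mul x y _ _ hx hy =>
    obtain ⟨m, hm⟩ := hx
    obtain ⟨n, hn⟩ := hy
    exact ⟨m + n, hm.mul hn⟩
  | inv x _ hx =>
    obtain ⟨m, hm⟩ := hx
    exact ⟨m, hm.inv⟩

/-- The hypotheses of the pair argument. -/
structure Setup (S B A W : Subgroup G) : Prop where
  good : Good B
  syl : IsSyl S B
  elem : Elem W
  le : W ≤ S
  norm : S ≤ normalizer (W : Set G)
  sq : SQ W S
  cent : centralizer (W : Set G) ≤ B
  normA : A ≤ normalizer (W : Set G)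
  normA' : A ≤ normalizer ((S ⊓ centralizer (W : Set G) : Subgroup G) : Set G)

namespace Setup

variable (P : Setup S B A W)
include P

theorem core_eq {b : G} (hb : b ∈ B) : cj b (core B) = core B :=
  cj_eq_self.2 (le_normalizer_core hb)

theorem cl_spec : cl B W ≤ core B ∧ Elem (cl B W) ∧ SQ (cl B W) (core B) := by
  have h0 : W ≤ core B := le_core_of_sq P.good P.syl P.elem P.le P.norm P.sq
  have h1 : ∀ b ∈ B, cj b W ≤ core B := fun b hb => (cj_mono h0).trans (P.core_eq hb).le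
  obtain ⟨h2, h3⟩ := cl_elem_sq (T := core B) P.elem h1 (fun b hb => (P.syl.cj hb).core_le) P.sq
  exact ⟨cl_le h1, h2, h3⟩

/-- Conjugates of `W` by short words lie in `O₂(B)`. -/
def O (S B A W : Subgroup G) (m : ℕ) : Prop := ∀ g, InS B A m g → W ≤ cj g (core B)

/-- Conjugates of `W` by short words centralize `W`. -/
def E (S B A W : Subgroup G) (m : ℕ) : Prop :=
  ∀ g, InS B A m g → W ≤ cj g (S ⊓ centralizer (W : Set G))

theorem o_zero : O S B A W 0 := fun g hg => by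
  rw [P.core_eq hg]
  exact le_cl.trans P.cl_spec.1

theorem e_of_o (hO : O S B A W m) : E S B A W m := by
  intro g hg
  have hgS : cj g W ≤ S := ((le_cj_iff.1 (hO g⁻¹ hg.inv)).trans P.syl.core_le).trans' (by
    rw [inv_inv])
  have hWg : W ≤ cj g S := (hO g hg).trans (cj_mono P.syl.core_le)
  have hE : Elem (cj g W) := by
    refine elem_iff.2 ⟨?_, ?_⟩
    · rintro _ ⟨v, hv, rfl⟩; rw [← map_mul, P.elem.mul_self hv, map_one]
    · rintro _ ⟨v, hv, rfl⟩ _ ⟨w, hw, rfl⟩; rw [← map_mul, ← map_mul, P.elem.comm hv hw]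
  have hc : W ≤ centralizer (cj g W : Set G) :=
    (P.sq.cj g).commute hE P.elem hgS hWg P.sq
  rw [cj_inf, cj_centralizer]
  exact le_inf hWg hc

variable (hO : O S B A W m) (hE : E S B A W m)

include hO in
theorem cl_le_core {h : G} (hh : InS B A m h) : cl B W ≤ cj h (core B) := cl_le fun b hb =>
  cj_le_iff.2 (by rw [cj_cj]; exact hO _ (hh.mul_left (B.inv_mem hb)))

include hE in
theorem cl_le_alpha {h : G} (hh : InS B A m h) :
    cl B W ≤ cj h (S ⊓ centralizer (W : Set G)) := cl_le fun b hb =>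
  cj_le_iff.2 (by rw [cj_cj]; exact hE _ (hh.mul_left (B.inv_mem hb)))

include hE in
theorem cj_cl_le_B {u : G} (hu : InS B A (m + 1) u) : cj u (cl B W) ≤ B := by
  obtain ⟨h, hh, a, ha, b, hb, e⟩ := hu.inv
  refine (cj_mono (P.cl_le_alpha hE hh)).trans ?_
  have e2 : u * h = b⁻¹ * a⁻¹ := by
    rw [show u = (u⁻¹)⁻¹ by group, e]; group
  rw [cj_cj, e2, ← cj_cj, cj_eq_self.2 (P.normA' (A.inv_mem ha))]
  exact (cj_mono (inf_le_left.trans P.syl.le)).trans (cj_of_mem (B.inv_mem hb)).le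

include hO in
theorem cj_cl_rad {u : G} (hu : InS B A (m + 1) u)
    (hn : B ≤ normalizer (cl B W : Set G)) : cj u (cl B W) ⊓ rad hn ≤ core B := by
  obtain ⟨h, hh, a, ha, b, hb, e⟩ := hu.inv
  have e2 : u * h = b⁻¹ * a⁻¹ := by
    rw [show u = (u⁻¹)⁻¹ by group, e]; group
  rintro x ⟨hxV, hxR⟩
  refine mem_core_of_kernel P.good inf_le_left
    (Coprime.le_normalizer_inf le_normalizer (Coprime.le_normalizer_centralizer hn))
    (rad_le hn) (le_normalizer_rad hn) (fun k hk => ?_) (P := cj (u * h) (core B))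
    (isPGroup_core.map _) ?_ ?_ hxR
  · obtain ⟨n, hn'⟩ := twoOn_rad hn k hk
    exact ⟨n, B.pow_mem (rad_le hn hk) _, hn'⟩
  · refine inf_le_right.trans (le_trans (centralizer_le (cj_le_cl (B.inv_mem hb))) ?_)
    rw [e2, ← cj_normalizer, ← cj_centralizer, ← cj_cj]
    refine cj_mono ?_
    rw [← cj_eq_self.2 (P.normA (A.inv_mem ha)), ← cj_centralizer]
    exact cj_mono (P.cent.trans le_normalizer_core)
  · rw [← cj_cj]
    exact (cj_mono (P.cl_le_core hO hh)) hxV

include hO hE in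
theorem cl_le_core_succ {u : G} (hu : InS B A (m + 1) u) : cj u (cl B W) ≤ core B := by
  obtain ⟨hYQ, hY, hYq⟩ := P.cl_spec
  set Y := cl B W with hYdef
  have hn : B ≤ normalizer (Y : Set G) := le_normalizer_cl
  have hYB : Y ≤ B := hYQ.trans core_le
  have facts : ∀ v, InS B A (m + 1) v →
      (core B).relIndex (cj v Y) ^ 2 ≤ (centralizer (cj v Y : Set G)).relIndex Y ∧
      ((centralizer (Y : Set G)).relIndex (cj v Y ⊓ core B)) ^ 2 ≤
        (centralizer ((cj v Y ⊓ core B : Subgroup G) : Set G)).relIndex Y ∧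
      (centralizer ((cj v Y ⊓ core B : Subgroup G) : Set G)).relIndex Y ≤
        (centralizer (cj v Y : Set G)).relIndex Y ∧
      (centralizer (Y : Set G)).relIndex (cj v Y) ≤
        (centralizer (Y : Set G)).relIndex (cj v Y ⊓ core B) * (core B).relIndex (cj v Y) := by
    intro v hv
    have hVB := P.cj_cl_le_B hE hv
    have hVe : Elem (cj v Y) := by
      refine elem_iff.2 ⟨?_, ?_⟩
      · rintro _ ⟨x, hx, rfl⟩; rw [← map_mul, hY.mul_self hx, map_one]
      · rintro _ ⟨x, hx, rfl⟩ _ ⟨w, hw, rfl⟩; rw [← map_mul, ← map_mul, hY.comm hx hw]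
    refine ⟨?_, hYq _ inf_le_right (elemOn_of_elem (hVe.of_le inf_le_left)),
      relIndex_le_of_le_left (centralizer_le inf_le_left) (relIndex_ne_zero' _ _), ?_⟩
    · refine (Nat.pow_le_pow_left (relIndex_le_of_inf_le ?_) 2).trans
        (bounds' P.good.free le_rfl hYB hY hn P.good.sol hVB (elemOn_of_elem hVe)).1
      rw [inf_comm]
      exact P.cj_cl_rad hO hv hn
    · rw [inf_comm (cj v Y), relIndex_inf_mul_relIndex]
      exact relIndex_le_of_le_left inf_le_left (relIndex_ne_zero' _ _)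
  have hsym : ∀ v, (centralizer (Y : Set G)).relIndex (cj v Y) =
      (centralizer (cj v⁻¹ Y : Set G)).relIndex Y := fun v => by
    rw [← relIndex_cj (g := v⁻¹), cj_centralizer, cj_inv_cj]
  have hle : ∀ v, InS B A (m + 1) v → (centralizer (Y : Set G)).relIndex (cj v Y) ≤
      (centralizer (cj v Y : Set G)).relIndex Y := fun v hv => by
    obtain ⟨f1, f2, f3, f4⟩ := facts v hv
    refine (Nat.pow_le_pow_iff_left (two_ne_zero)).1 ?_
    calc _ ≤ ((centralizer (Y : Set G)).relIndex (cj v Y ⊓ core B) *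
          (core B).relIndex (cj v Y)) ^ 2 := Nat.pow_le_pow_left f4 2
      _ ≤ (centralizer (cj v Y : Set G)).relIndex Y * (centralizer (cj v Y : Set G)).relIndex Y := by
          rw [mul_pow]; exact Nat.mul_le_mul (f2.trans f3) f1
      _ = _ := (pow_two _).symm
  obtain ⟨f1, f2, f3, f4⟩ := facts u hu
  set V := cj u Y with hV
  set k := (core B).relIndex V with hk
  set c := (centralizer (V : Set G)).relIndex Y with hc
  set e := (centralizer (Y : Set G)).relIndex (V ⊓ core B) with he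
  set d := (centralizer ((V ⊓ core B : Subgroup G) : Set G)).relIndex Y with hd
  have hac : (centralizer (Y : Set G)).relIndex V = c := by
    refine le_antisymm (hle u hu) ?_
    have h2 := hle u⁻¹ hu.inv
    rw [hsym u⁻¹, inv_inv] at h2
    rw [hsym u]
    exact h2
  rw [hac] at f4
  have hk0 : 0 < k := Nat.pos_of_ne_zero (relIndex_ne_zero' _ _)
  have hc0 : 0 < c := Nat.pos_of_ne_zero (relIndex_ne_zero' _ _)
  rw [← relIndex_eq_one]
  show k = 1
  by_contra hk1
  have hk2 : 2 ≤ k := by omega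
  rw [pow_two] at f1 f2
  have h1 : c * c ≤ (k * k) * c := by
    calc c * c ≤ (e * k) * (e * k) := Nat.mul_le_mul f4 f4
      _ = (e * e) * (k * k) := by ring
      _ ≤ c * (k * k) := Nat.mul_le_mul_right _ (f2.trans f3)
      _ = _ := mul_comm _ _
  have hck : c = k * k := le_antisymm (Nat.le_of_mul_le_mul_right h1 hc0) f1
  have hek : k ≤ e := Nat.le_of_mul_le_mul_right (hck ▸ f4) hk0
  have hdc : d = c := le_antisymm f3 (hck.le.trans ((Nat.mul_le_mul hek hek).trans f2))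
  have hVe : Elem V := by
    refine elem_iff.2 ⟨?_, ?_⟩
    · rintro _ ⟨x, hx, rfl⟩; rw [← map_mul, hY.mul_self hx, map_one]
    · rintro _ ⟨x, hx, rfl⟩ _ ⟨w, hw, rfl⟩; rw [← map_mul, ← map_mul, hY.comm hx hw]
  have hYV : Y ≤ normalizer (V : Set G) := by
    rw [hV, ← cj_normalizer, le_cj_iff]
    exact (P.cj_cl_le_B hE hu.inv).trans hn
  refine no_equality P.good hY hYQ hn hVe (P.cj_cl_le_B hE hu) hYV (P.cj_cl_rad hO hu hn) hk hk2 hck
    ?_ (fun hle => ?_) hYq
  · have h3 : centralizer (V : Set G) ⊓ Y ≤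
        centralizer ((V ⊓ core B : Subgroup G) : Set G) ⊓ Y :=
      inf_le_inf_right _ (centralizer_le inf_le_left)
    have h4 := relIndex_mul_relIndex _ _ _ h3 inf_le_right
    rw [inf_relIndex_right, inf_relIndex_right, ← hc, ← hd, hdc] at h4
    have h5 : (centralizer (V : Set G) ⊓ Y).relIndex
        (centralizer ((V ⊓ core B : Subgroup G) : Set G) ⊓ Y) = 1 :=
      Nat.eq_of_mul_eq_mul_right hc0 (by rw [h4, one_mul])
    exact (relIndex_eq_one.1 h5).trans inf_le_left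
  · have : e = 1 := relIndex_eq_one.2 hle
    omega

theorem all : ∀ m, O S B A W m
  | 0 => P.o_zero
  | m + 1 => fun g hg => le_cj_iff.2
      ((cj_mono le_cl).trans (P.cl_le_core_succ (all m) (P.e_of_o (all m)) hg.inv))

/-- The conjugates of `W` under `B ⊔ A` generate a 2-group. -/
theorem exists_two : ∃ K : Subgroup G, IsPGroup 2 K ∧ W ≤ K ∧ B ⊔ A ≤ normalizer (K : Set G) := by
  refine ⟨cl (B ⊔ A) W, P.syl.two.to_le (cl_le fun g hg => ?_), le_cl, le_normalizer_cl⟩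
  obtain ⟨m, hm⟩ := exists_inS hg
  exact cj_le_iff.2 ((P.all m g⁻¹ hm.inv).trans (cj_mono P.syl.core_le))

end Setup

end Cfsg.Agent.S4Free
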