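import Cfsg.Agent.FG72.S4Free.Regular

/-!
Normalisers of preimages and subgroups acting trivially on a quotient of a module.
-/

set_option autoImplicit false
set_option linter.unusedVariables false
set_option linter.unusedSectionVars false

namespace Cfsg.Agent.S4Free

open Subgroup

universe u

variable {G : Type u} [Group G] [Finite G] {Q : Type u} [Group Q] {K : Subgroup G} {f : ↥K →* Q}
  {X' : Subgroup G} {Y : Subgroup Q}

theorem le_normalizer_pre (hX' : X' ≤ K) (h : im f X' ≤ normalizer (Y : Set Q)) :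
    X' ≤ normalizer (pre f Y : Set G) := by
  refine le_normalizer_of_cj_le fun x hx => ?_
  rintro _ ⟨y, hy, rfl⟩
  obtain ⟨hyK, hy⟩ := mem_pre.1 hy
  refine mem_pre.2 ⟨K.mul_mem (K.mul_mem (hX' hx) hyK) (K.inv_mem (hX' hx)), ?_⟩
  have := (mem_normalizer_iff.1 (h (im_mem (hX' hx) hx)) _).1 hy
  rw [← map_inv, ← map_mul, ← map_mul] at this
  exact this

/-- The elements normalising `V₁` and acting trivially on `V` modulo `V₁`. -/
def trivOn (V V1 : Subgroup G) : Subgroup G where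
  carrier := {p | p ∈ normalizer (V1 : Set G) ∧ p ∈ normalizer (V : Set G) ∧
    ∀ m ∈ V, p * m * p⁻¹ * m⁻¹ ∈ V1}
  one_mem' := ⟨one_mem _, one_mem _, fun m _ => by simp⟩
  mul_mem' := by
    rintro a b ⟨ha1, ha2, ha⟩ ⟨hb1, hb2, hb⟩
    refine ⟨mul_mem ha1 hb1, mul_mem ha2 hb2, fun m hm => ?_⟩
    have e1 := mem_normalizer_conj ha1 (hb m hm)
    have := V1.mul_mem e1 (ha m hm)
    convert this using 1
    group
  inv_mem' := by
    rintro a ⟨ha1, ha2, ha⟩
    refine ⟨inv_mem ha1, inv_mem ha2, fun m hm => ?_⟩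
    have e1 := mem_normalizer_conj (inv_mem ha1) (V1.inv_mem (ha m hm))
    convert e1 using 1
    group

theorem mem_trivOn {V V1 : Subgroup G} {p : G} :
    p ∈ trivOn V V1 ↔ p ∈ normalizer (V1 : Set G) ∧ p ∈ normalizer (V : Set G) ∧
      ∀ m ∈ V, p * m * p⁻¹ * m⁻¹ ∈ V1 := Iff.rfl

theorem relIndex_le_of_mul {A B M : Subgroup G} (hB : B ≤ M)
    (h : ∀ m ∈ M, ∃ b ∈ B, b⁻¹ * m ∈ A) : A.relIndex M ≤ A.relIndex B := by
  let φ : ↥B ⧸ A.subgroupOf B → ↥M ⧸ A.subgroupOf M :=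
    Quotient.map' (fun b : ↥B => (⟨b, hB b.2⟩ : ↥M)) fun b c hbc => by
      rw [QuotientGroup.leftRel_apply, mem_subgroupOf] at hbc ⊢
      exact hbc
  refine Nat.card_le_card_of_surjective φ ?_
  intro q
  obtain ⟨⟨m, hm⟩, rfl⟩ := QuotientGroup.mk_surjective q
  obtain ⟨b, hb, hbm⟩ := h m hm
  refine ⟨QuotientGroup.mk ⟨b, hb⟩, ?_⟩
  exact QuotientGroup.eq.2 hbm

end Cfsg.Agent.S4Free
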