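import Cfsg.Agent.FG72.S4Free.Local
import Cfsg.Agent.Lib.Fitting
import Cfsg.Agent.Lib.Fitting.Minimal

/-!
An elementary abelian 2-subgroup acting on a solvable group with trivial 2-core has a regular
orbit on the Fitting subgroup, so with a conjugate it generates a group in whose 2-core it meets
only the radical.
-/

set_option autoImplicit false
set_option linter.unusedVariables false
set_option linter.unusedSectionVars false
set_option linter.style.haveILetI false

namespace Cfsg.Agent.S4Free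

open Subgroup

universe u

variable {X : Type u} [Group X] [Finite X]

theorem odd_card_fitting (hO : Cfsg.pCore 2 X = ⊥) :
    Odd (Nat.card ↥(Cfsg.fittingSubgroup X)) := by
  haveI : Fact (Nat.Prime 2) := ⟨Nat.prime_two⟩
  set F := Cfsg.fittingSubgroup X with hF
  haveI : Group.IsNilpotent ↥F := Fitting.fitting_isNilpotent
  haveI : F.Normal := Fitting.fitting_normal
  by_contra hodd
  have hd : 2 ∣ Nat.card ↥F := Nat.not_odd_iff_even.1 hodd |>.two_dvd
  obtain ⟨y, hy⟩ := exists_prime_orderOf_dvd_card' 2 hd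
  have hp : IsPGroup 2 ↥(zpowers y) :=
    IsPGroup.of_card (n := 1) (by rw [Nat.card_zpowers, hy, pow_one])
  obtain ⟨P, hP⟩ := hp.exists_le_sylow
  have hPn : (P : Subgroup ↥F).Normal :=
    Sylow.normal_of_normalizerCondition Group.normalizerCondition_of_isNilpotent P
  have h1 : (y : X) ∈ Cfsg.pCore 2 X := Thompson.map_pCore_normal_le F
    ⟨y, Thompson.le_pCore hPn P.isPGroup' (hP (mem_zpowers y)), rfl⟩
  rw [hO, mem_bot] at h1
  rw [show y = 1 from Subtype.ext h1, orderOf_one] at hy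
  omega

theorem eq_of_sq_eq {F : Subgroup X} (hodd : Odd (Nat.card ↥F)) {y y' : X} (hy : y ∈ F)
    (hy' : y' ∈ F) (h : y * y = y' * y') : y = y' := by
  obtain ⟨k, hk⟩ := hodd
  have hpow : ∀ y ∈ F, (y * y) ^ (k + 1) = y := fun y hy => by
    rw [← pow_two, ← pow_mul, show 2 * (k + 1) = Nat.card ↥F + 1 by omega, pow_succ]
    have := congrArg Subtype.val (pow_card_eq_one' (x := (⟨y, hy⟩ : ↥F)))
    rw [coe_pow, coe_one] at this
    rw [this, one_mul]
  rw [← hpow y hy, h, hpow y' hy']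

/-- A regular orbit. -/
theorem exists_regular [Group.IsSolvable X] (hO : Cfsg.pCore 2 X = ⊥) {A : Subgroup X}
    (hA : Elem A) :
    ∃ x ∈ Cfsg.fittingSubgroup X, ∀ a ∈ A, a * x = x * a → a = 1 := by
  set F := Cfsg.fittingSubgroup X with hF
  have hodd := odd_card_fitting hO
  rw [← hF] at hodd
  haveI hFn : F.Normal := Fitting.fitting_normal
  haveI : Nonempty ↥F := ⟨1⟩
  obtain ⟨x, hx⟩ := Finite.exists_min
    fun x : ↥F => Nat.card {a : ↥A // (a : X) * x = x * a}
  refine ⟨x, x.2, fun a ha hax => ?_⟩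
  by_contra ha1
  have haa : a * a = 1 := hA.mul_self ha
  have hainv : a⁻¹ = a := inv_eq_of_mul_eq_one_right haa
  -- `a` moves some element of `F`
  obtain ⟨y, hy, hay⟩ : ∃ y ∈ F, a * y ≠ y * a := by
    by_contra hcon
    push Not at hcon
    have haF : a ∈ F := Fitting.centralizer_fitting_le
      (mem_centralizer_iff.2 fun y hy => (hcon y hy).symm)
    exact ha1 (eq_of_sq_eq hodd haF F.one_mem (by rw [haa, one_mul]))
  obtain ⟨y1, hy1F, hy1ne, hy1a⟩ : ∃ y1 ∈ F, y1 ≠ 1 ∧ a * y1 * a = y1⁻¹ := by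
    refine ⟨a * y * a * y⁻¹, F.mul_mem (by simpa [hainv] using hFn.conj_mem y hy a) (F.inv_mem hy),
      fun h => hay ?_, ?_⟩
    · calc a * y = (a * y * a * y⁻¹) * y * a⁻¹ := by group
        _ = y * a := by rw [h, one_mul, hainv]
    · rw [mul_inv_rev, mul_inv_rev, mul_inv_rev, inv_inv, hainv]
      calc a * (a * y * a * y⁻¹) * a = (a * a) * y * a * y⁻¹ * a := by simp only [mul_assoc]
        _ = y * (a * (y⁻¹ * a)) := by rw [haa, one_mul]; simp only [mul_assoc]
  have hsub : ∀ b : ↥A, (b : X) * ((x : X) * y1) = (x : X) * y1 * b →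
      (b : X) * x = x * b := by
    rintro ⟨b, hb⟩ hbz
    have hbb : b * b = 1 := hA.mul_self hb
    have hbinv : b⁻¹ = b := inv_eq_of_mul_eq_one_right hbb
    have hab : a * b = b * a := hA.comm ha hb
    have haxa : a * (x : X) * a = x := by rw [hax, mul_assoc, haa, mul_one]
    obtain ⟨x', hx'⟩ : ∃ x' : X, x' = b * (x : X) * b := ⟨_, rfl⟩
    obtain ⟨y', hy'⟩ : ∃ y' : X, y' = b * y1 * b := ⟨_, rfl⟩
    have hy'F : y' ∈ F := by rw [hy']; simpa [hbinv] using hFn.conj_mem y1 hy1F b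
    have e1 : x' * y' = (x : X) * y1 := by
      calc x' * y' = b * (x : X) * (b * b) * y1 * b := by rw [hx', hy']; simp only [mul_assoc]
        _ = (b * ((x : X) * y1)) * b := by rw [hbb, mul_one]; simp only [mul_assoc]
        _ = ((x : X) * y1) * (b * b) := by rw [hbz]; simp only [mul_assoc]
        _ = _ := by rw [hbb, mul_one]
    have hax' : a * x' * a = x' := by
      rw [hx']
      calc a * (b * (x : X) * b) * a = (a * b) * (x : X) * (b * a) := by simp only [mul_assoc]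
        _ = (b * a) * (x : X) * (a * b) := by rw [← hab]
        _ = b * (a * (x : X) * a) * b := by simp only [mul_assoc]
        _ = b * (x : X) * b := by rw [haxa]
    have hay' : a * y' * a = y'⁻¹ := by
      rw [hy']
      calc a * (b * y1 * b) * a = (a * b) * y1 * (b * a) := by simp only [mul_assoc]
        _ = (b * a) * y1 * (a * b) := by rw [← hab]
        _ = b * (a * y1 * a) * b := by simp only [mul_assoc]
        _ = b * y1⁻¹ * b := by rw [hy1a]
        _ = (b * y1 * b)⁻¹ := by rw [mul_inv_rev, mul_inv_rev, hbinv, mul_assoc]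
    have e2 : (x : X)⁻¹ * x' = y1 * y'⁻¹ := by
      calc (x : X)⁻¹ * x' = (x : X)⁻¹ * (x' * y') * y'⁻¹ := by group
        _ = y1 * y'⁻¹ := by rw [e1]; group
    have e3 : y1⁻¹ * y' = y1 * y'⁻¹ := by
      calc y1⁻¹ * y' = (a * y1 * a) * (a * y' * a)⁻¹ := by rw [hy1a, hay', inv_inv]
        _ = a * (y1 * y'⁻¹) * a⁻¹ := by group
        _ = a * ((x : X)⁻¹ * x') * a⁻¹ := by rw [e2]
        _ = (a * (x : X) * a)⁻¹ * (a * x' * a) := by
          have haz : ∀ z : X, a * (a * z) = z := fun z => by rw [← mul_assoc, haa, one_mul]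
          simp [mul_assoc, mul_inv_rev, hainv, haz]
        _ = y1 * y'⁻¹ := by rw [haxa, hax', e2]
    have e4 : y' * y' = y1 * y1 := by
      calc y' * y' = y1 * (y1⁻¹ * y') * y' := by group
        _ = y1 * (y1 * y'⁻¹) * y' := by rw [e3]
        _ = y1 * y1 := by group
    have e5 : y' = y1 := eq_of_sq_eq hodd hy'F hy1F e4
    rw [e5, mul_inv_cancel, inv_mul_eq_one] at e2
    calc b * (x : X) = b * x * (b * b) := by rw [hbb, mul_one]
      _ = x' * b := by simp only [hx', mul_assoc]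
      _ = x * b := by rw [← e2]
  have hna : ¬ a * ((x : X) * y1) = (x : X) * y1 * a := fun h => by
    have : (x : X) * y1⁻¹ = x * y1 := by
      calc (x : X) * y1⁻¹ = x * (a * y1 * a) := by rw [hy1a]
        _ = (x * a) * y1 * a := by simp only [mul_assoc]
        _ = (a * x) * y1 * a := by rw [hax]
        _ = (a * ((x : X) * y1)) * a := by simp only [mul_assoc]
        _ = (x : X) * y1 * (a * a) := by rw [h]; simp only [mul_assoc]
        _ = x * y1 := by rw [haa, mul_one]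
    refine hy1ne (eq_of_sq_eq hodd hy1F F.one_mem ?_)
    rw [one_mul]
    nth_rewrite 1 [← mul_left_cancel this]
    exact inv_mul_cancel y1
  refine absurd (hx ⟨(x : X) * y1, F.mul_mem x.2 hy1F⟩) (not_le.2 ?_)
  haveI := Fintype.ofFinite ↥A
  classical
  rw [Nat.card_eq_fintype_card, Nat.card_eq_fintype_card]
  refine Fintype.card_lt_of_injective_of_notMem
    (fun b : {b : ↥A // (b : X) * ((x : X) * y1) = (x : X) * y1 * b} =>
      (⟨b.1, hsub b.1 b.2⟩ : {b : ↥A // (b : X) * (x : X) = (x : X) * b}))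
    (fun b c h => Subtype.ext (congrArg (fun t => t.1) h)) (b := ⟨⟨a, ha⟩, hax⟩) ?_
  rintro ⟨⟨b, hb2⟩, hb⟩
  obtain rfl : b = ⟨a, ha⟩ := congrArg (fun t => t.1) hb
  exact hna hb2

variable {G : Type u} [Group G] [Finite G]

/-- Every element of `K` has some 2-power in `R`. -/
def TwoMod (R K : Subgroup G) : Prop := ∀ k ∈ K, ∃ n : ℕ, k ^ 2 ^ n ∈ R

/-- `R` is the preimage of the trivial 2-core of `H / R`. -/
structure IsRadical (R H : Subgroup G) : Prop where
  le : R ≤ H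
  normal : H ≤ normalizer (R : Set G)
  max : ∀ K ≤ H, H ≤ normalizer (K : Set G) → R ≤ K → TwoMod R K → K ≤ R

/-- `V` and its conjugate by `h` generate a group in whose 2-radical modulo `R` `V` is trivial. -/
def Moves (R H V : Subgroup G) (h : G) : Prop :=
  ∀ K ≤ H, V ≤ normalizer (K : Set G) → cj h V ≤ normalizer (K : Set G) → TwoMod R K → V ⊓ K ≤ R

theorem moves_of_regular {Q : Type u} [Group Q] [Finite Q] {H R V : Subgroup G} (f : ↥H →* Q)
    (hker : ∀ {x : G} (hx : x ∈ H), f ⟨x, hx⟩ = 1 ↔ x ∈ R) {F : Subgroup Q} (hFn : F.Normal)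
    (hodd : Odd (Nat.card ↥F)) (hV : Elem V) (hVH : V ≤ H) {h : G} (hh : h ∈ H)
    (hhF : f ⟨h, hh⟩ ∈ F) (hreg : ∀ a ∈ im f V, a * f ⟨h, hh⟩ = f ⟨h, hh⟩ * a → a = 1) :
    Moves R H V h := by
  intro K hK hVK hV'K h2
  rintro v ⟨hv, hvK⟩
  have hcN : v * (h * v * h⁻¹) ∈ normalizer (K : Set G) :=
    mul_mem (hVK hv) (hV'K (conj_mem_cj hv))
  have hd := K.mul_mem hvK (mem_normalizer_conj hcN (K.inv_mem hvK))
  have hdH := hK hd
  obtain ⟨a, ha⟩ : ∃ a, a = f ⟨v, hVH hv⟩ := ⟨_, rfl⟩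
  obtain ⟨x, hxdef⟩ : ∃ x, x = f ⟨h, hh⟩ := ⟨_, rfl⟩
  have hav : a ∈ im f V := ha ▸ im_mem _ hv
  have haa : a * a = 1 := (elem_im (f := f) hV).mul_self hav
  have hainv : a⁻¹ = a := inv_eq_of_mul_eq_one_right haa
  obtain ⟨cb, hcb⟩ : ∃ cb, cb = a * (x * a * x⁻¹) := ⟨_, rfl⟩
  have hcbF : cb ∈ F := by
    have : cb = (a * x * a⁻¹) * x⁻¹ := by rw [hcb, hainv]; simp only [mul_assoc]
    rw [this]
    exact F.mul_mem (hFn.conj_mem x (hxdef ▸ hhF) a) (F.inv_mem (hxdef ▸ hhF))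
  have hinv : a * cb * a⁻¹ = cb⁻¹ := by
    rw [hcb, hainv, mul_inv_rev, mul_inv_rev, mul_inv_rev, inv_inv, hainv]
    calc a * (a * (x * a * x⁻¹)) * a = (a * a) * (x * a * x⁻¹) * a := by simp only [mul_assoc]
      _ = x * (a * x⁻¹) * a := by rw [haa, one_mul, mul_assoc x a]
  have hfd : f ⟨_, hdH⟩ = cb⁻¹ * cb⁻¹ := by
    have e : f ⟨_, hdH⟩ = a * (cb * a⁻¹ * cb⁻¹) := by
      rw [hcb, ha, hxdef]
      simp only [← map_inv, ← map_mul]
      rfl
    rw [e, ← mul_assoc, ← mul_assoc, hinv]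
  obtain ⟨n, hn⟩ := h2 _ hd
  have e1 : (cb⁻¹ * cb⁻¹) ^ 2 ^ n = 1 := by
    rw [← hfd, ← map_pow]
    exact (hker (H.pow_mem hdH _)).2 hn
  have hpc : cb ^ Nat.card ↥F = 1 :=
    congrArg Subtype.val (pow_card_eq_one' (x := (⟨cb, hcbF⟩ : ↥F)))
  have e2 : cb ^ 2 ^ (n + 1) = 1 := by
    rw [← pow_two, ← pow_mul, inv_pow, inv_eq_one, ← pow_succ'] at e1
    exact e1
  have hcb1 : cb = 1 := by
    have hdvd := Nat.dvd_gcd (orderOf_dvd_of_pow_eq_one hpc) (orderOf_dvd_of_pow_eq_one e2)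
    rw [show Nat.gcd (Nat.card ↥F) (2 ^ (n + 1)) = 1 from
      Nat.Coprime.pow_right _ (Nat.coprime_two_right.2 hodd), Nat.dvd_one,
      orderOf_eq_one_iff] at hdvd
    exact hdvd
  refine (hker (hVH hv)).1 (ha ▸ hreg a hav ?_)
  rw [← hxdef]
  calc a * x = a * x * (a * x⁻¹) * (x * a⁻¹) := by group
    _ = (a * (x * a * x⁻¹)) * (x * a) := by rw [hainv]; simp only [mul_assoc]
    _ = x * a := by rw [← hcb, hcb1, one_mul]

/-- A conjugate with which `V` generates a group having no further 2-radical in `V`. -/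
theorem exists_mover {H R V : Subgroup G} (hsol : Group.IsSolvable H) (hR : IsRadical R H)
    (hV : Elem V) (hVH : V ≤ H) : ∃ h ∈ H, Moves R H V h ∧ Moves R H V h⁻¹ := by
  haveI : (R.subgroupOf H).Normal := (normal_subgroupOf_iff_le_normalizer hR.le).2 hR.normal
  haveI := hsol
  set f := QuotientGroup.mk' (R.subgroupOf H) with hf
  have hfs : Function.Surjective f := QuotientGroup.mk'_surjective _
  haveI : Group.IsSolvable (↥H ⧸ R.subgroupOf H) := Group.isSolvable_of_surjective (f := f) hfs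
  have hker : ∀ {x : G} (hx : x ∈ H), f ⟨x, hx⟩ = 1 ↔ x ∈ R := fun {x} hx => by
    rw [hf, QuotientGroup.mk'_apply, QuotientGroup.eq_one_iff, mem_subgroupOf]
  have hO : Cfsg.pCore 2 (↥H ⧸ R.subgroupOf H) = ⊥ := by
    have hmax := hR.max (pre f (Cfsg.pCore 2 _)) pre_le
      (le_normalizer_map_subtype _
        ((Thompson.instPCoreNormal (p := 2) (G := ↥H ⧸ R.subgroupOf H)).comap f))
      (fun x hx => mem_pre.2 ⟨hR.le hx, by rw [(hker (hR.le hx)).2 hx]; exact one_mem _⟩)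
      (fun k hk => by
        obtain ⟨hkH, hk⟩ := mem_pre.1 hk
        obtain ⟨n, hn⟩ := Thompson.isPGroup_pCore (p := 2) ⟨_, hk⟩
        refine ⟨n, (hker (H.pow_mem hkH _)).1 ?_⟩
        have e : (f ⟨k, hkH⟩) ^ 2 ^ n = 1 := congrArg Subtype.val hn
        rw [← map_pow] at e
        exact e)
    rw [eq_bot_iff]
    intro q hq
    obtain ⟨⟨x, hx⟩, rfl⟩ := hfs q
    exact mem_bot.2 ((hker hx).2 (hmax (mem_pre.2 ⟨hx, hq⟩)))
  obtain ⟨x, hx, hreg⟩ := exists_regular hO (elem_im (f := f) hV)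
  obtain ⟨⟨h, hh⟩, rfl⟩ := hfs x
  have hF := odd_card_fitting hO
  have hx' : f ⟨h⁻¹, H.inv_mem hh⟩ ∈ Cfsg.fittingSubgroup (↥H ⧸ R.subgroupOf H) := by
    have := inv_mem hx
    rwa [← map_inv] at this
  refine ⟨h, hh, moves_of_regular f hker Fitting.fitting_normal hF hV hVH hh hx hreg,
    moves_of_regular f hker Fitting.fitting_normal hF hV hVH (H.inv_mem hh) hx' fun a ha e =>
      hreg a ha ?_⟩
  have e' : Commute a (f ⟨h, hh⟩)⁻¹ := by rw [← map_inv]; exact e
  simpa using e'.inv_right.eq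

end Cfsg.Agent.S4Free
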