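import Cfsg.Agent.FG72.S4Free.Bound
import Cfsg.Agent.FG72.S4Free.Conj

/-!
The squared condition and the join `wk S` of the subgroups of a 2-group `S` satisfying it.
-/

set_option autoImplicit false
set_option linter.unusedVariables false
set_option linter.unusedSectionVars false
set_option linter.style.haveILetI false

namespace Cfsg.Agent.S4Free

open Subgroup Equiv

universe u

variable {G : Type u} [Group G] [Finite G]

/-- Every subgroup of `T` elementary on `V` is small with respect to `V`. -/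
def SQ (V T : Subgroup G) : Prop :=
  ∀ B ≤ T, ElemOn V B →
    (centralizer (V : Set G)).relIndex B ^ 2 ≤ (centralizer (B : Set G)).relIndex V

variable {V W T T' : Subgroup G}

theorem SQ.mono (h : SQ V T) (hT : T' ≤ T) : SQ V T' := fun B hB => h B (hB.trans hT)

theorem sq_of_le_centralizer (h : T ≤ centralizer (V : Set G)) : SQ V T := fun B hB _ => by
  rw [relIndex_eq_one.2 (hB.trans h), one_pow]
  exact Nat.one_le_iff_ne_zero.2 (relIndex_ne_zero' _ _)

theorem ElemOn.cj {B : Subgroup G} (g : G) (h : ElemOn V B) :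
    ElemOn (cj g V) (S4Free.cj g B) := by
  rintro _ ⟨b, hb, rfl⟩
  rw [← cj_centralizer, ← map_mul]
  exact ⟨_, h b hb, rfl⟩

theorem SQ.cj (h : SQ V T) (g : G) : SQ (cj g V) (S4Free.cj g T) := fun B hB hBe => by
  have h1 := h (S4Free.cj g⁻¹ B) (cj_le_iff.2 (by rwa [inv_inv]))
    (by simpa only [cj_inv_cj] using hBe.cj g⁻¹)
  rw [← relIndex_cj (g := g), cj_centralizer, cj_cj_inv] at h1
  rwa [← relIndex_cj (g := g) (X := centralizer (_ : Set G)) (Y := V), cj_centralizer, cj_cj_inv] at h1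

theorem SQ.commute (hV : Elem V) (hW : Elem W) (hVT : V ≤ T') (hWT : W ≤ T) (h1 : SQ V T)
    (h2 : SQ W T') : W ≤ centralizer (V : Set G) := by
  have e1 := h1 W hWT (elemOn_of_elem hW)
  have e2 := h2 V hVT (elemOn_of_elem hV)
  set a := (centralizer (V : Set G)).relIndex W
  set c := (centralizer (W : Set G)).relIndex V
  have ha : a ≠ 0 := relIndex_ne_zero' _ _
  rw [← relIndex_eq_one]
  show a = 1
  by_contra hne
  have h3 : a * a ≤ c := by rw [← pow_two]; exact e1
  have h4 : c * c ≤ a := by rw [← pow_two]; exact e2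
  have h5 : 2 ≤ a := by omega
  have h6 : a * a * (a * a) ≤ c * c := Nat.mul_le_mul h3 h3
  have h7 : 2 * 2 * 2 ≤ a * a * a := Nat.mul_le_mul (Nat.mul_le_mul h5 h5) h5
  have h8 : 8 * a ≤ a * a * a * a := Nat.mul_le_mul_right a h7
  have h9 : a * a * a * a = a * a * (a * a) := mul_assoc _ _ _
  omega

theorem elem_sup {A B : Subgroup G} (hA : Elem A) (hB : Elem B)
    (hc : B ≤ centralizer (A : Set G)) : Elem (A ⊔ B) := by
  have hn : B ≤ normalizer (A : Set G) := hc.trans (centralizer_le_normalizer _)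
  refine elem_iff.2 ⟨fun x hx => ?_, fun x hx y hy => ?_⟩
  · rw [← SetLike.mem_coe, coe_mul_of_right_le_normalizer_left A B hn] at hx
    obtain ⟨a, ha, b, hb, rfl⟩ := hx
    have e : b * a = a * b := (mem_centralizer_iff.1 (hc hb) a ha).symm
    calc a * b * (a * b) = a * (b * a) * b := by simp only [mul_assoc]
      _ = (a * a) * (b * b) := by rw [e]; simp only [mul_assoc]
      _ = 1 := by rw [hA.mul_self ha, hB.mul_self hb, mul_one]
  · have h1 : A ⊔ B ≤ centralizer (A ⊔ B : Subgroup G) := by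
      refine sup_le ?_ ?_
      · exact le_centralizer_iff.1 (sup_le hA.le_centralizer hc)
      · exact le_centralizer_iff.1 (sup_le (le_centralizer_iff.1 hc) hB.le_centralizer)
    exact (mem_centralizer_iff.1 (h1 hy) x hx)

theorem SQ.sup {V1 V2 : Subgroup G} (hc : V2 ≤ centralizer (V1 : Set G)) (h1 : SQ V1 T)
    (h2 : SQ V2 T) : SQ (V1 ⊔ V2) T := by
  intro B hB hBe
  set C1 := centralizer (V1 : Set G) ⊓ B with hC1
  have e1 := h1 B hB (hBe.mono le_sup_left le_rfl)
  have e2 := h2 C1 (inf_le_right.trans hB) (hBe.mono le_sup_right inf_le_right)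
  have hB2 : (centralizer ((V1 ⊔ V2 : Subgroup G) : Set G)).relIndex B ≤
      (centralizer (V1 : Set G)).relIndex B * (centralizer (V2 : Set G)).relIndex C1 := by
    rw [mul_comm, hC1, relIndex_inf_mul_relIndex]
    refine relIndex_le_of_le_left (le_centralizer_iff.1 (sup_le ?_ ?_)) (relIndex_ne_zero' _ _)
    · exact le_centralizer_iff.1 inf_le_right
    · exact le_centralizer_iff.1 inf_le_left
  refine (Nat.pow_le_pow_left hB2 2).trans ?_
  rw [mul_pow, ← inf_relIndex_right (centralizer (B : Set G)) (V1 ⊔ V2)]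
  set W1 := centralizer (C1 : Set G) ⊓ (V1 ⊔ V2)
  have hsub : centralizer (B : Set G) ⊓ (V1 ⊔ V2) ≤ W1 :=
    inf_le_inf_right _ (centralizer_le inf_le_right)
  rw [← relIndex_mul_relIndex _ _ _ hsub inf_le_right]
  refine Nat.mul_le_mul (e1.trans ?_) (e2.trans ?_)
  · have hV1 : V1 ≤ W1 := le_inf (le_centralizer_iff.1 inf_le_left) le_sup_left
    refine le_trans (le_of_eq ?_) (relIndex_le_of_le_right hV1 (relIndex_ne_zero' _ _))
    rw [← inf_relIndex_right (centralizer (B : Set G)),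
      ← inf_relIndex_right (centralizer (B : Set G) ⊓ (V1 ⊔ V2)), inf_assoc,
      inf_eq_right.2 (le_sup_left : V1 ≤ V1 ⊔ V2)]
  · refine le_trans (le_of_eq ?_)
      (relIndex_le_of_le_right (le_sup_right : V2 ≤ V1 ⊔ V2) (relIndex_ne_zero' _ _))
    rw [← inf_relIndex_right (centralizer (C1 : Set G)), ← inf_relIndex_right W1, inf_assoc,
      inf_eq_right.2 (le_sup_right : V2 ≤ V1 ⊔ V2)]

/-- The join of a commuting family. -/
theorem sSup_elem_sq (s : Set (Subgroup G)) (T : Subgroup G) (hE : ∀ V ∈ s, Elem V)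
    (hc : ∀ V ∈ s, ∀ W ∈ s, W ≤ centralizer (V : Set G)) (hq : ∀ V ∈ s, SQ V T) :
    Elem (sSup s) ∧ SQ (sSup s) T := by
  induction s, s.toFinite using Set.Finite.induction_on with
  | empty =>
    rw [sSup_empty]
    refine ⟨elem_iff.2 ⟨fun v hv => ?_, fun v hv w hw => ?_⟩, sq_of_le_centralizer fun t _ => ?_⟩
    · obtain rfl : v = 1 := hv; exact one_mul 1
    · obtain rfl : v = 1 := hv; simp
    · refine mem_centralizer_iff.2 fun v hv => ?_
      obtain rfl : v = 1 := hv; simp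
  | @insert V s _ _ ih =>
    obtain ⟨h1, h2⟩ := ih (fun W hW => hE W (Set.mem_insert_of_mem _ hW))
      (fun A hA B hB => hc A (Set.mem_insert_of_mem _ hA) B (Set.mem_insert_of_mem _ hB))
      (fun W hW => hq W (Set.mem_insert_of_mem _ hW))
    rw [sSup_insert]
    have hcV : sSup s ≤ centralizer (V : Set G) :=
      sSup_le fun W hW => hc V (Set.mem_insert _ _) W (Set.mem_insert_of_mem _ hW)
    exact ⟨elem_sup (hE V (Set.mem_insert _ _)) h1 hcV,
      (hq V (Set.mem_insert _ _)).sup hcV h2⟩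

/-- A join of conjugates lying in `T`, each of which satisfies the condition on a subgroup
containing `T`. -/
theorem cl_elem_sq {H X S : Subgroup G} (hX : Elem X) (hT : ∀ h ∈ H, cj h X ≤ T)
    (hS : ∀ h ∈ H, T ≤ cj h S) (hq : SQ X S) : Elem (cl H X) ∧ SQ (cl H X) T := by
  have hE : ∀ h ∈ H, Elem (cj h X) := fun h _ => by
    refine elem_iff.2 ⟨?_, ?_⟩
    · rintro _ ⟨v, hv, rfl⟩; rw [← map_mul, hX.mul_self hv, map_one]
    · rintro _ ⟨v, hv, rfl⟩ _ ⟨w, hw, rfl⟩; rw [← map_mul, ← map_mul, hX.comm hv hw]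
  rw [cl, ← sSup_range]
  refine sSup_elem_sq _ T ?_ ?_ ?_
  · rintro _ ⟨h, rfl⟩; exact hE h h.2
  · rintro _ ⟨h, rfl⟩ _ ⟨k, rfl⟩
    exact ((hq.cj h).mono (hS h h.2)).commute (hE h h.2) (hE k k.2) (hT h h.2) (hT k k.2)
      ((hq.cj k).mono (hS k k.2))
  · rintro _ ⟨h, rfl⟩; exact (hq.cj h).mono (hS h h.2)

/-- The involutions of the centre of `S`. -/
def zc (S : Subgroup G) : Subgroup G where
  carrier := {x | x ∈ S ∧ x ∈ centralizer (S : Set G) ∧ x * x = 1}
  one_mem' := ⟨one_mem _, one_mem _, one_mul 1⟩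
  mul_mem' := by
    rintro x y ⟨hx, hx', hx2⟩ ⟨hy, hy', hy2⟩
    refine ⟨mul_mem hx hy, mul_mem hx' hy', ?_⟩
    have e : y * x = x * y := mem_centralizer_iff.1 hx' y hy
    calc x * y * (x * y) = x * (y * x) * y := by simp only [mul_assoc]
      _ = (x * x) * (y * y) := by rw [e]; simp only [mul_assoc]
      _ = 1 := by rw [hx2, hy2, one_mul]
  inv_mem' := by
    rintro x ⟨hx, hx', hx2⟩
    exact ⟨inv_mem hx, inv_mem hx', by rw [← mul_inv_rev, hx2, inv_one]⟩

variable {S : Subgroup G}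

theorem zc_le : zc S ≤ S := fun _ h => h.1

theorem zc_le_centralizer : zc S ≤ centralizer (S : Set G) := fun _ h => h.2.1

theorem elem_zc : Elem (zc S) :=
  elem_iff.2 ⟨fun _ h => h.2.2, fun v hv w hw => mem_centralizer_iff.1 hw.2.1 v hv.1⟩

theorem le_centralizer_zc : S ≤ centralizer (zc S : Set G) := le_centralizer_iff.1 zc_le_centralizer

theorem zc_ne_bot (hS : IsPGroup 2 S) (hne : S ≠ ⊥) : zc S ≠ ⊥ := by
  haveI : Fact (Nat.Prime 2) := ⟨Nat.prime_two⟩
  haveI : Nontrivial ↥S := (nontrivial_iff_ne_bot _).2 hne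
  haveI := hS.center_nontrivial
  obtain ⟨z, hz, hz1⟩ : ∃ z : ↥(center ↥S), orderOf z = 2 ∧ True := by
    obtain ⟨n, hn⟩ := IsPGroup.iff_card.1 (hS.to_subgroup (center ↥S))
    have hd : 2 ∣ Nat.card ↥(center ↥S) := by
      rw [hn]
      refine dvd_pow_self 2 fun h0 => ?_
      have := Finite.one_lt_card (α := ↥(center ↥S))
      rw [hn, h0] at this
      simp at this
    obtain ⟨z, hz⟩ := exists_prime_orderOf_dvd_card' 2 hd
    exact ⟨z, hz, trivial⟩
  intro h
  have hm : (((z : ↥S)) : G) ∈ zc S := by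
    refine ⟨(z : ↥S).2, mem_centralizer_iff.2 fun s hs => ?_, ?_⟩
    · exact congrArg Subtype.val (mem_center_iff.1 z.2 ⟨s, hs⟩)
    · have h2 := pow_orderOf_eq_one z
      rw [hz, pow_two] at h2
      exact congrArg Subtype.val (congrArg Subtype.val h2)
  rw [h, mem_bot] at hm
  have : z = 1 := Subtype.ext (Subtype.ext hm)
  rw [this, orderOf_one] at hz
  omega

theorem cj_zc {g : G} : cj g (zc S) = zc (cj g S) := by
  ext x
  show _ ↔ x ∈ cj g S ∧ x ∈ centralizer (cj g S : Set G) ∧ x * x = 1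
  rw [← cj_centralizer, mem_cj, mem_cj, mem_cj]
  refine and_congr_right fun _ => and_congr_right fun _ => ?_
  rw [show g⁻¹ * x * g * (g⁻¹ * x * g) = g⁻¹ * (x * x) * g by group]
  constructor
  · intro h
    calc x * x = g * (g⁻¹ * (x * x) * g) * g⁻¹ := by group
      _ = 1 := by rw [h]; group
  · intro h; rw [h]; group

theorem normalizer_le_normalizer_zc : normalizer (S : Set G) ≤ normalizer (zc S : Set G) :=
  fun g hg => cj_eq_self.1 (by rw [cj_zc, cj_eq_self.2 hg])

/-- The join of the elementary subgroups normalised by `S` with the squared condition. -/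
def wk (S : Subgroup G) : Subgroup G :=
  sSup {V : Subgroup G | Elem V ∧ V ≤ S ∧ S ≤ normalizer (V : Set G) ∧ SQ V S}

theorem le_wk (hV : Elem V) (hVS : V ≤ S) (hn : S ≤ normalizer (V : Set G)) (hq : SQ V S) :
    V ≤ wk S := le_sSup ⟨hV, hVS, hn, hq⟩

theorem zc_le_wk : zc S ≤ wk S :=
  le_wk elem_zc zc_le (le_normalizer.trans normalizer_le_normalizer_zc)
    (sq_of_le_centralizer le_centralizer_zc)

theorem wk_le : wk S ≤ S := sSup_le fun _ h => h.2.1

theorem wk_spec : Elem (wk S) ∧ SQ (wk S) S :=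
  sSup_elem_sq _ S (fun V hV => hV.1)
    (fun V hV W hW => hV.2.2.2.commute hV.1 hW.1 hV.2.1 hW.2.1 hW.2.2.2)
    fun V hV => hV.2.2.2

theorem cj_wk_le {g : G} : cj g (wk S) ≤ wk (cj g S) := by
  rw [wk, cj, sSup_eq_iSup, Subgroup.map_iSup]
  refine iSup_le fun V => ?_
  rw [Subgroup.map_iSup]
  refine iSup_le fun hV => ?_
  refine le_wk ?_ (cj_mono hV.2.1) ?_ (hV.2.2.2.cj g)
  · refine elem_iff.2 ⟨?_, ?_⟩
    · rintro _ ⟨v, hv, rfl⟩; rw [← map_mul, hV.1.mul_self hv, map_one]
    · rintro _ ⟨v, hv, rfl⟩ _ ⟨w, hw, rfl⟩; rw [← map_mul, ← map_mul, hV.1.comm hv hw]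
  · show cj g S ≤ normalizer (cj g V : Set G)
    rw [← cj_normalizer]
    exact cj_mono hV.2.2.1

theorem normalizer_le_normalizer_wk : normalizer (S : Set G) ≤ normalizer (wk S : Set G) :=
  le_normalizer_of_cj_le fun g hg => cj_wk_le.trans (by rw [cj_eq_self.2 hg])

theorem le_normalizer_wk : S ≤ normalizer (wk S : Set G) :=
  le_normalizer.trans normalizer_le_normalizer_wk

theorem wk_ne_bot (hS : IsPGroup 2 S) (hne : S ≠ ⊥) : wk S ≠ ⊥ := fun h =>
  zc_ne_bot hS hne (le_bot_iff.1 (zc_le_wk.trans h.le))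

/-- A normalised elementary subgroup on which the acting group has trivial radical. -/
theorem sq_of_rad_le {H : Subgroup G} (hfree : ¬ Cfsg.Involves (Perm (Fin 4)) G) (hV : Elem V)
    (h : H ≤ normalizer (V : Set G)) (hsol : Group.IsSolvable H)
    (hrad : rad h ≤ centralizer (V : Set G)) (hT : T ≤ H) : SQ V T :=
  fun B hB hBe => (bounds_of_rad_le hfree hV h hsol hrad (hB.trans hT) hBe).1

end Cfsg.Agent.S4Free
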