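import Cfsg.Agent.FG72.S4Free.Basic
import Cfsg.Agent.LocalEven61.Involves

/-!
Images of subgroups of a subgroup under a homomorphism.
-/

set_option autoImplicit false
set_option linter.unusedVariables false
set_option linter.unusedSectionVars false

namespace Cfsg.Agent.S4Free

open Subgroup Equiv

universe u

variable {G : Type u} [Group G] {Q : Type u} [Group Q] {K : Subgroup G}

/-- The image of a subgroup. -/
def im (f : ↥K →* Q) (X : Subgroup G) : Subgroup Q := (X.subgroupOf K).map f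

/-- The preimage of a subgroup. -/
def pre (f : ↥K →* Q) (Y : Subgroup Q) : Subgroup G := (Y.comap f).map K.subtype

variable {f : ↥K →* Q} {X X' : Subgroup G} {Y : Subgroup Q}

theorem mem_im {q : Q} : q ∈ im f X ↔ ∃ (x : G) (hx : x ∈ K), x ∈ X ∧ f ⟨x, hx⟩ = q := by
  constructor
  · rintro ⟨⟨x, hx⟩, hxX, rfl⟩
    exact ⟨x, hx, hxX, rfl⟩
  · rintro ⟨x, hx, hxX, rfl⟩
    exact ⟨⟨x, hx⟩, hxX, rfl⟩

theorem mem_pre {x : G} : x ∈ pre f Y ↔ ∃ hx : x ∈ K, f ⟨x, hx⟩ ∈ Y := by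
  constructor
  · rintro ⟨⟨x, hx⟩, hxY, rfl⟩
    exact ⟨hx, hxY⟩
  · rintro ⟨hx, hxY⟩
    exact ⟨⟨x, hx⟩, hxY, rfl⟩

theorem im_mem {x : G} (hx : x ∈ K) (hxX : x ∈ X) : f ⟨x, hx⟩ ∈ im f X := mem_im.2 ⟨x, hx, hxX, rfl⟩

theorem im_mono (h : X ≤ X') : im f X ≤ im f X' := map_mono (fun _ hx => h hx)

theorem pre_le : pre f Y ≤ K := map_subtype_le _

theorem elem_im (hX : Elem X) : Elem (im f X) := by
  refine elem_iff.2 ⟨?_, ?_⟩
  · rintro _ ⟨x, hx, rfl⟩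
    rw [← map_mul, show x * x = 1 from Subtype.ext (hX.mul_self hx), map_one]
  · rintro _ ⟨x, hx, rfl⟩ _ ⟨y, hy, rfl⟩
    rw [← map_mul, ← map_mul, show x * y = y * x from Subtype.ext (hX.comm hx hy)]

theorem le_normalizer_im (hX' : X' ≤ K) (h : X' ≤ normalizer (X : Set G)) :
    im f X' ≤ normalizer (im f X : Set Q) := by
  rintro _ ⟨⟨y, hyK⟩, hy, rfl⟩
  refine mem_normalizer_iff.2 fun q => ⟨?_, ?_⟩
  · rintro ⟨⟨x, hxK⟩, hx, rfl⟩
    exact ⟨⟨y, hyK⟩ * ⟨x, hxK⟩ * ⟨y, hyK⟩⁻¹, (mem_normalizer_iff.1 (h hy) x).1 hx,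
      by rw [map_mul, map_mul, map_inv]⟩
  · rintro ⟨⟨x, hxK⟩, hx, e⟩
    refine ⟨⟨y, hyK⟩⁻¹ * ⟨x, hxK⟩ * ⟨y, hyK⟩, (mem_normalizer_iff.1 (h hy) _).2 ?_, ?_⟩
    · show y * (y⁻¹ * x * y) * y⁻¹ ∈ X
      have hx' : x ∈ X := hx
      simpa [mul_assoc] using hx'
    · rw [map_mul, map_mul, map_inv, e]; group

theorem elemOn_im {V B : Subgroup G} (h : ElemOn V B) : ElemOn (im f V) (im f B) := by
  rintro _ ⟨b, hb, rfl⟩
  refine mem_centralizer_iff.2 ?_
  rintro _ ⟨v, hv, rfl⟩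
  rw [← map_mul, ← map_mul, ← map_mul]
  exact congrArg f (Subtype.ext (mem_centralizer_iff.1 (h _ hb) _ hv))

theorem commutator_im_le (hX : X ≤ K) (hX' : X' ≤ K) :
    ⁅im f X, im f X'⁆ ≤ im f ⁅X, X'⁆ := by
  rw [commutator_le]
  rintro _ ⟨x, hx, rfl⟩ _ ⟨y, hy, rfl⟩
  refine ⟨x * y * x⁻¹ * y⁻¹, ?_, by simp [commutatorElement_def]⟩
  exact commutator_mem_commutator (H₁ := X) (H₂ := X') hx hy

theorem pre_relIndex (hX : X ≤ K) : (pre f Y).relIndex X = Y.relIndex (im f X) := by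
  rw [im, ← relIndex_comap, pre]
  conv_lhs => rw [← map_subgroupOf_eq_of_le hX]
  rw [relIndex_map_map_of_injective _ _ K.subtype_injective]

theorem card_eq_im_mul [Finite G] (hX : X ≤ K) :
    Nat.card ↥X = Nat.card ↥(im f X) * Nat.card ↥(pre f ⊥ ⊓ X) := by
  rw [← relIndex_bot_left (H := im f X), ← pre_relIndex hX, ← relIndex_bot_left (H := pre f ⊥ ⊓ X),
    ← inf_relIndex_right (pre f ⊥) X, mul_comm, relIndex_mul_relIndex _ _ _ bot_le inf_le_right,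
    relIndex_bot_left]

theorem solvable_im {H : Subgroup G} (hH : H ≤ K) (hsol : Group.IsSolvable H) :
    Group.IsSolvable ↥(im f H) := by
  haveI := hsol
  refine Group.isSolvable_of_surjective
    (f := (f.comp (inclusion hH)).codRestrict (im f H) fun x => im_mem (hH x.2) x.2) ?_
  rintro ⟨_, ⟨x, hxK⟩, hx, rfl⟩
  exact ⟨⟨x, hx⟩, rfl⟩

theorem solvable_le {A B : Subgroup G} (h : A ≤ B) (hB : Group.IsSolvable B) :
    Group.IsSolvable A := by
  haveI := hB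
  exact Group.isSolvable_of_isSolvable_injective (inclusion_injective h)

theorem free_of_surjective (hfree : ¬ Cfsg.Involves (Perm (Fin 4)) G)
    (hf : Function.Surjective f) : ¬ Cfsg.Involves (Perm (Fin 4)) Q := fun h =>
  hfree (LocalEven61.involves_trans h (LocalEven61.involves_of_hom f hf K.subtype K.subtype_injective))

end Cfsg.Agent.S4Free
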