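import Cfsg.Agent.FG72.S4Free.Pair
import Cfsg.Agent.Lib.PGroup.Basic
import Cfsg.Prelude.Def_Involutions

/-!
With all 2-locals solvable, of characteristic 2 and without a section `S₄`, two distinct maximal
2-locals meet in a group of odd order.
-/

set_option autoImplicit false
set_option linter.unusedVariables false
set_option linter.unusedSectionVars false
set_option linter.style.haveILetI false

namespace Cfsg.Agent.S4Free

open Subgroup Equiv

universe u

variable {G : Type u} [Group G] [Finite G]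

theorem isTwoLocal_normalizer {K : Subgroup G} (hK : IsPGroup 2 K) (hne : K ≠ ⊥) :
    Cfsg.IsTwoLocal (normalizer (K : Set G)) := ⟨K, hK, hne, rfl⟩

theorem exists_maximal_ge {H : Subgroup G} (hH : Cfsg.IsTwoLocal H) :
    ∃ M, Cfsg.IsMaximalTwoLocal M ∧ H ≤ M := by
  haveI : Nonempty {N : Subgroup G // Cfsg.IsTwoLocal N ∧ H ≤ N} := ⟨⟨H, hH, le_rfl⟩⟩
  obtain ⟨⟨M, hM, hHM⟩, hmax⟩ := Finite.exists_max
    fun N : {N : Subgroup G // Cfsg.IsTwoLocal N ∧ H ≤ N} => Nat.card ↥N.1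
  exact ⟨M, ⟨hM, fun N hN hMN =>
    (eq_of_le_of_card_ge hMN (hmax ⟨N, hN, hHM.trans hMN⟩)).symm⟩, hHM⟩

theorem exists_normalizer_gt {S R : Subgroup G} (hS : IsPGroup 2 S) (hRS : R < S) :
    R < normalizer (R : Set G) ⊓ S := by
  haveI : Fact (Nat.Prime 2) := ⟨Nat.prime_two⟩
  have hne : R.subgroupOf S ≠ ⊤ := fun h => not_le_of_gt hRS (subgroupOf_eq_top.1 h)
  obtain ⟨x, hx, hxR⟩ := SetLike.exists_of_lt (PGroup.lt_normalizer hS hne)
  refine lt_of_le_not_ge (le_inf le_normalizer hRS.le) fun h => hxR (h ⟨?_, x.2⟩)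
  refine cj_eq_self.1 (eq_of_le_of_card_ge ?_ card_cj.ge)
  rintro _ ⟨r, hr, rfl⟩
  have h1 := mem_normalizer_conj hx (show (⟨r, hRS.le hr⟩ : ↥S) ∈ R.subgroupOf S from hr)
  exact h1

variable (hloc : ∀ M : Subgroup G, Cfsg.IsTwoLocal M → Good M)
include hloc

/-- All 2-locals over a Sylow 2-subgroup lie in one 2-local. -/
theorem exists_unique_local {S : Subgroup G} (hS : IsSyl S ⊤) (hne : S ≠ ⊥) :
    ∃ M0 : Subgroup G, Cfsg.IsTwoLocal M0 ∧ ∀ H, Cfsg.IsTwoLocal H → S ≤ H → H ≤ M0 := by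
  have hZ2 : IsPGroup 2 ↥(zc S) := hS.two.to_le zc_le
  have hW2 : IsPGroup 2 ↥(wk S) := hS.two.to_le wk_le
  set B := centralizer (zc S : Set G) with hB
  set W := wk S with hW
  set A := normalizer (W : Set G) ⊓ normalizer ((S ⊓ centralizer (W : Set G) : Subgroup G) : Set G)
  have hBg : Good B := (hloc _ (isTwoLocal_normalizer hZ2 (zc_ne_bot hS.two hne))).of_normal
    (centralizer_le_normalizer _) (Coprime.le_normalizer_centralizer le_rfl)
  have hP : Setup S B A W :=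
    ⟨hBg, hS.mono le_top le_centralizer_zc, wk_spec.1, wk_le, le_normalizer_wk, wk_spec.2,
      centralizer_le zc_le_wk, inf_le_left, inf_le_right⟩
  obtain ⟨K, hK2, hWK, hBA⟩ := hP.exists_two
  have hKne : K ≠ ⊥ := fun h => wk_ne_bot hS.two hne (le_bot_iff.1 (hWK.trans h.le))
  refine ⟨_, isTwoLocal_normalizer hK2 hKne, fun H hH hSH => ?_⟩
  refine (gen (hloc H hH) (hS.mono le_top hSH)).trans
    (sup_le (inf_le_right.trans (le_sup_left.trans hBA)) (inf_le_right.trans fun g hg => ?_))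
  set C := centralizer (W : Set G) with hC
  have hSN : IsSyl S (normalizer (W : Set G)) := hS.mono le_top le_normalizer_wk
  obtain ⟨k, hk, x, hx, rfl⟩ := hSN.frattini (centralizer_le_normalizer _)
    (Coprime.le_normalizer_centralizer le_rfl) hg
  exact mul_mem (hBA (mem_sup_left (centralizer_le zc_le_wk hk))) (hBA (mem_sup_right hx))

/-- Distinct maximal 2-locals meet in odd order. -/
theorem odd_inf {M1 M2 : Subgroup G} (h1 : Cfsg.IsMaximalTwoLocal M1)
    (h2 : Cfsg.IsMaximalTwoLocal M2) (hne : M1 ≠ M2) : Odd (Nat.card ↥(M1 ⊓ M2)) := by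
  haveI : Fact (Nat.Prime 2) := ⟨Nat.prime_two⟩
  by_contra hodd
  let P : Subgroup G → Prop := fun R => IsPGroup 2 R ∧ R ≠ ⊥ ∧ ∃ N1 N2,
    Cfsg.IsMaximalTwoLocal N1 ∧ Cfsg.IsMaximalTwoLocal N2 ∧ N1 ≠ N2 ∧ R ≤ N1 ∧ R ≤ N2
  have hex : Nonempty {R // P R} := by
    obtain ⟨y, hy⟩ := exists_prime_orderOf_dvd_card' 2 (Nat.not_odd_iff_even.1 hodd).two_dvd
    refine ⟨⟨zpowers (y : G), IsPGroup.of_card (n := 1) ?_, ?_, M1, M2, h1, h2, hne,
      zpowers_le.2 y.2.1, zpowers_le.2 y.2.2⟩⟩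
    · rw [Nat.card_zpowers, orderOf_coe, hy, pow_one]
    · rw [Ne, zpowers_eq_bot]
      intro h
      rw [show y = 1 from Subtype.ext h, orderOf_one] at hy
      omega
  obtain ⟨⟨R, hR2, hRne, N1, N2, hN1, hN2, hN12, hR1, hR2'⟩, hmax⟩ :=
    Finite.exists_max fun R : {R // P R} => Nat.card ↥R.1
  have hsame : ∀ M M' : Subgroup G, Cfsg.IsMaximalTwoLocal M → Cfsg.IsMaximalTwoLocal M' →
      ∀ Q : Subgroup G, IsPGroup 2 Q → R < Q → Q ≤ M → Q ≤ M' → M = M' := by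
    intro M M' hM hM' Q hQ hlt hQM hQM'
    by_contra h
    have h1 := hmax ⟨Q, hQ, fun e => not_le_of_gt hlt (e.le.trans bot_le), M, M', hM, hM', h, hQM, hQM'⟩
    exact hlt.ne (eq_of_le_of_card_ge hlt.le h1)
  obtain ⟨M3, hM3, hNR⟩ := exists_maximal_ge (isTwoLocal_normalizer hR2 hRne)
  have hgrow : ∀ M, Cfsg.IsMaximalTwoLocal M → R ≤ M → ¬ IsSyl R M → M = M3 := by
    intro M hM hRM hns
    obtain ⟨Q, hRQ, hQ⟩ := exists_isSyl_ge hR2 hRM
    have hlt : R < Q := lt_of_le_of_ne hRQ fun e => hns (e.symm ▸ hQ)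
    exact hsame M M3 hM hM3 _ (hQ.two.to_le inf_le_right) (exists_normalizer_gt hQ.two hlt)
      (inf_le_right.trans hQ.le) (inf_le_left.trans hNR)
  obtain ⟨S, hRS, hS⟩ := exists_isSyl_ge hR2 (le_top : R ≤ ⊤)
  rcases hRS.lt_or_eq with hlt | rfl
  swap
  · obtain ⟨M0, hM0, hu⟩ := exists_unique_local hloc hS hRne
    exact hN12 ((hN1.2 M0 hM0 (hu N1 hN1.1 hR1)).symm.trans (hN2.2 M0 hM0 (hu N2 hN2.1 hR2')))
  -- some member has `R` as a Sylow 2-subgroup
  obtain ⟨M, hM, hRM, hsyl⟩ : ∃ M, Cfsg.IsMaximalTwoLocal M ∧ R ≤ M ∧ IsSyl R M := by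
    by_contra hcon
    push Not at hcon
    exact hN12 ((hgrow N1 hN1 hR1 (hcon N1 hN1 hR1)).trans
      (hgrow N2 hN2 hR2' (hcon N2 hN2 hR2')).symm)
  have hgt := exists_normalizer_gt hS.two hlt
  have hT2 : IsPGroup 2 ↥(normalizer (R : Set G) ⊓ S) := hS.two.to_le inf_le_right
  have hne3 : M ≠ M3 := fun e => hgt.ne
    (hsyl.max _ (inf_le_left.trans (hNR.trans e.ge)) hT2 hgt.le).symm
  have hle : ∀ X : Subgroup G, IsPGroup 2 X → X ≠ ⊥ →
      normalizer (R : Set G) ≤ normalizer (X : Set G) → normalizer (X : Set G) ≤ M3 := by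
    intro X hX hXne hXn
    obtain ⟨M4, hM4, h4⟩ := exists_maximal_ge (isTwoLocal_normalizer hX hXne)
    exact h4.trans (hsame M4 M3 hM4 hM3 _ hT2 hgt (inf_le_left.trans (hXn.trans h4))
      (inf_le_left.trans hNR)).le
  have hMM3 : M ≤ M3 := (gen (hloc M hM.1) hsyl).trans (sup_le
    (inf_le_right.trans ((centralizer_le_normalizer _).trans
      (hle _ (hR2.to_le zc_le) (zc_ne_bot hR2 hRne) normalizer_le_normalizer_zc)))
    (inf_le_right.trans (hle _ (hR2.to_le wk_le) (wk_ne_bot hR2 hRne) normalizer_le_normalizer_wk)))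
  exact hne3 (hM.2 M3 hM3.1 hMM3).symm

/-- Every maximal 2-local is strongly embedded. -/
theorem isStronglyEmbedded (hO : Cfsg.pCore 2 G = ⊥) {M : Subgroup G}
    (hM : Cfsg.IsMaximalTwoLocal M) : Cfsg.IsStronglyEmbedded M := by
  haveI : Fact (Nat.Prime 2) := ⟨Nat.prime_two⟩
  obtain ⟨T, hT, hTne, hMT⟩ := hM.1
  have hTM : T ≤ M := hMT ▸ le_normalizer
  have hcore : core M ≠ ⊥ := fun h => hTne (le_bot_iff.1
    ((le_core hTM hT hMT.le).trans h.le))
  refine ⟨fun h => hTne ?_, ?_, fun g hg => ?_⟩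
  · have hn : T.Normal := normalizer_eq_top_iff.1 (hMT.symm.trans h)
    exact le_bot_iff.1 (hO ▸ Thompson.le_pCore hn hT)
  · obtain ⟨n, hn⟩ := IsPGroup.iff_card.1 hT
    rcases n with _ | n
    · exact absurd (eq_bot_of_card_eq T (by rw [hn, pow_zero])) hTne
    · exact even_iff_two_dvd.2 ((dvd_pow_self 2 n.succ_ne_zero).trans (hn ▸ card_dvd_of_le hTM))
  · have hcjM : Cfsg.IsMaximalTwoLocal (cj g M) := by
      refine ⟨⟨cj g T, hT.map _, fun h => hTne ?_, ?_⟩, fun N hN hle => ?_⟩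
      · exact (map_eq_bot_iff_of_injective _ (MulAut.conj g).injective).1 h
      · rw [← cj_normalizer, ← hMT]
      · obtain ⟨T', hT', hT'ne, hNT'⟩ := hN
        have hloc' : Cfsg.IsTwoLocal (cj g⁻¹ N) := ⟨cj g⁻¹ T', hT'.map _,
          fun h => hT'ne ((map_eq_bot_iff_of_injective _ (MulAut.conj g⁻¹).injective).1 h),
          by rw [← cj_normalizer, ← hNT']⟩
        rw [← hM.2 _ hloc' (cj_le_iff.1 hle), cj_cj_inv]
    refine odd_inf hloc hM hcjM fun h => hg ?_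
    have h1 : normalizer (M : Set G) ≤ normalizer (core M : Set G) := core_normalizer_le
    have h2 := hM.2 _ (isTwoLocal_normalizer isPGroup_core hcore) (le_normalizer.trans h1)
    exact h2.le (h1 (cj_eq_self.1 h.symm))

end Cfsg.Agent.S4Free
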